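import Cfsg.Agent.Lib.Char.Linear
import Cfsg.Agent.Lib.Char.DihedralPrincipal

/-!
Upper bounds for class numbers: subgroups, quotients, derived subgroup.
-/

set_option autoImplicit false
set_option linter.unusedSectionVars false
set_option linter.style.haveILetI false

namespace Cfsg.Agent.Solv.LayerCls

open scoped commutatorElement

universe u v

variable {G : Type u} [Group G] [Finite G]

/-- Commuting pairs, counted by centralisers. -/
theorem sum_centralizer [Fintype G] :
    ∑ x : G, Nat.card (Subgroup.centralizer ({x} : Set G)) = Nat.card (ConjClasses G) * Nat.card G := by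
  classical
  rw [← card_comm_eq_card_conjClasses_mul_card, ← Nat.card_sigma]
  exact Nat.card_congr
    { toFun := fun p => ⟨(p.1, (p.2 : G)), (Subgroup.mem_centralizer_singleton_iff.1 p.2.2).symm⟩
      invFun := fun q => ⟨q.1.1, ⟨q.1.2, Subgroup.mem_centralizer_singleton_iff.2 q.2.symm⟩⟩
      left_inv := fun p => rfl
      right_inv := fun q => rfl }

theorem card_classes_le_card : Nat.card (ConjClasses G) ≤ Nat.card G :=
  Nat.card_le_card_of_surjective _ ConjClasses.mk_surjective

theorem classes_quot_le {Q : Type v} [Group Q] (f : G →* Q) (hf : Function.Surjective f) :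
    Nat.card (ConjClasses Q) ≤ Nat.card (ConjClasses G) :=
  Nat.card_le_card_of_surjective _ (ConjClasses.map_surjective hf)

/-- A subgroup of index `i` has at least a `1 / i` share of the classes. -/
theorem classes_le_index_mul (H : Subgroup G) :
    Nat.card (ConjClasses G) ≤ H.index * Nat.card (ConjClasses H) := by
  classical
  haveI := Fintype.ofFinite G
  haveI : Fintype H := Fintype.ofFinite _
  have hrel : ∀ K : Subgroup G, Nat.card K ≤ H.index * Nat.card (H ⊓ K : Subgroup G) := by
    intro K
    have h1 := Subgroup.card_mul_index ((H ⊓ K).subgroupOf K)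
    rw [Nat.card_congr (Subgroup.subgroupOfEquivOfLe (inf_le_right : H ⊓ K ≤ K)).toEquiv] at h1
    rw [← h1, mul_comm]
    refine Nat.mul_le_mul_right _ ?_
    rw [show ((H ⊓ K).subgroupOf K).index = (H ⊓ K).relIndex K from rfl, Subgroup.inf_relIndex_right]
    have h2 : H.relIndex K ≤ H.relIndex ⊤ := Subgroup.relIndex_le_of_le_right le_top
      (by rw [Subgroup.relIndex_top_right]; exact Subgroup.index_ne_zero_of_finite)
    rwa [Subgroup.relIndex_top_right] at h2
  have h1 := sum_centralizer (G := G)
  have hswap : ∀ x : G, Nat.card (H ⊓ Subgroup.centralizer ({x} : Set G) : Subgroup G) =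
      (Finset.univ.filter fun h : H => (h : G) * x = x * h).card := fun x => by
    rw [← Fintype.card_subtype, ← Nat.card_eq_fintype_card]
    exact Nat.card_congr
      { toFun := fun h => ⟨⟨h.1, h.2.1⟩, Subgroup.mem_centralizer_singleton_iff.1 h.2.2⟩
        invFun := fun h => ⟨h.1.1, h.1.2, Subgroup.mem_centralizer_singleton_iff.2 h.2⟩
        left_inv := fun _ => rfl
        right_inv := fun _ => rfl }
  have hC : ∀ h : H, (Finset.univ.filter fun x : G => (h : G) * x = x * h).card =
      Nat.card (Subgroup.centralizer ({(h : G)} : Set G)) := fun h => by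
    rw [← Fintype.card_subtype, ← Nat.card_eq_fintype_card]
    exact Nat.card_congr
      { toFun := fun x => ⟨x.1, Subgroup.mem_centralizer_singleton_iff.2 x.2.symm⟩
        invFun := fun x => ⟨x.1, (Subgroup.mem_centralizer_singleton_iff.1 x.2).symm⟩
        left_inv := fun _ => rfl
        right_inv := fun _ => rfl }
  have hC' : ∀ h : H, Nat.card (H ⊓ Subgroup.centralizer ({(h : G)} : Set G) : Subgroup G) =
      Nat.card (Subgroup.centralizer ({h} : Set H)) := fun h => Nat.card_congr
    { toFun := fun x => ⟨⟨x.1, x.2.1⟩, Subgroup.mem_centralizer_singleton_iff.2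
        (Subtype.ext (Subgroup.mem_centralizer_singleton_iff.1 x.2.2))⟩
      invFun := fun x => ⟨x.1.1, x.1.2, Subgroup.mem_centralizer_singleton_iff.2
        (congrArg Subtype.val (Subgroup.mem_centralizer_singleton_iff.1 x.2))⟩
      left_inv := fun _ => rfl
      right_inv := fun _ => rfl }
  have h2 : Nat.card (ConjClasses G) * Nat.card G ≤
      H.index * (H.index * (Nat.card (ConjClasses H) * Nat.card H)) := by
    rw [← h1, ← sum_centralizer (G := H), Finset.mul_sum, Finset.mul_sum]
    calc ∑ x : G, Nat.card (Subgroup.centralizer ({x} : Set G))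
        ≤ ∑ x : G, H.index * Nat.card (H ⊓ Subgroup.centralizer ({x} : Set G) : Subgroup G) :=
          Finset.sum_le_sum fun x _ => hrel _
      _ = ∑ h : H, H.index * Nat.card (Subgroup.centralizer ({(h : G)} : Set G)) := by
          simp only [hswap, ← hC, ← Finset.mul_sum, Finset.card_filter]
          rw [Finset.sum_comm]
      _ ≤ ∑ h : H, H.index * (H.index * Nat.card (Subgroup.centralizer ({h} : Set H))) :=
          Finset.sum_le_sum fun h _ => Nat.mul_le_mul_left _ ((hrel _).trans (le_of_eq (by rw [hC'])))
  rw [← H.card_mul_index] at h2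
  refine Nat.le_of_mul_le_mul_right (c := Nat.card H * H.index) ?_
    (Nat.mul_pos Nat.card_pos (Nat.pos_of_ne_zero Subgroup.index_ne_zero_of_finite))
  exact h2.trans (le_of_eq (by ring))

/-- Gallagher: classes multiply over a normal subgroup. -/
theorem classes_le_mul_quot (N : Subgroup G) [N.Normal] :
    Nat.card (ConjClasses G) ≤ Nat.card (ConjClasses N) * Nat.card (ConjClasses (G ⧸ N)) := by
  classical
  haveI := Fintype.ofFinite G
  haveI : Fintype N := Fintype.ofFinite _
  haveI : Fintype (G ⧸ N) := Fintype.ofFinite _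
  let π := QuotientGroup.mk' N
  let cN : G → ℕ := fun x => (Finset.univ.filter fun n : N => (n : G) * x = x * n).card
  have hA : ∀ x : G, Nat.card (Subgroup.centralizer ({x} : Set G)) ≤
      cN x * Nat.card (Subgroup.centralizer ({π x} : Set (G ⧸ N))) := by
    intro x
    let f := π.comp (Subgroup.centralizer ({x} : Set G)).subtype
    rw [← f.ker.card_mul_index]
    refine Nat.mul_le_mul (le_of_eq ?_) ?_
    · show _ = (Finset.univ.filter fun n : N => (n : G) * x = x * n).card
      rw [← Fintype.card_subtype, ← Nat.card_eq_fintype_card]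
      exact Nat.card_congr
        { toFun := fun y => ⟨⟨y.1.1, (QuotientGroup.eq_one_iff _).1 y.2⟩,
            Subgroup.mem_centralizer_singleton_iff.1 y.1.2⟩
          invFun := fun n => ⟨⟨n.1.1, Subgroup.mem_centralizer_singleton_iff.2 n.2⟩,
            (QuotientGroup.eq_one_iff _).2 n.1.2⟩
          left_inv := fun _ => rfl
          right_inv := fun _ => rfl }
    · rw [Subgroup.index_ker]
      refine Subgroup.card_le_of_le ?_
      rintro _ ⟨y, rfl⟩
      refine Subgroup.mem_centralizer_singleton_iff.2 ?_
      show π y * π x = π x * π y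
      rw [← map_mul, ← map_mul, Subgroup.mem_centralizer_singleton_iff.1 y.2]
  have hB : ∀ c : G ⧸ N, ∑ x ∈ Finset.univ.filter (fun x : G => π x = c), cN x ≤
      Nat.card (ConjClasses N) * Nat.card N := by
    intro c
    rw [← sum_centralizer (G := N)]
    simp only [cN, Finset.card_filter]
    rw [Finset.sum_comm]
    refine Finset.sum_le_sum fun n _ => ?_
    rw [← Finset.card_filter, Finset.filter_filter, Nat.card_eq_fintype_card, Fintype.card_subtype]
    rcases (Finset.univ.filter fun x : G => π x = c ∧ (n : G) * x = x * n).eq_empty_or_nonempty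
      with h0 | ⟨x0, hx0⟩
    · rw [h0]; exact Nat.zero_le _
    obtain ⟨hx1, hx2⟩ := (Finset.mem_filter.1 hx0).2
    have hN : ∀ x : G, π x = c → x0⁻¹ * x ∈ N := fun x hx => QuotientGroup.eq.1 (hx1.trans hx.symm)
    refine Finset.card_le_card_of_injOn
      (fun x => if h : x0⁻¹ * x ∈ N then (⟨_, h⟩ : N) else 1) (fun x hx => ?_) fun x hx y hy e => ?_
    · obtain ⟨ha, hb⟩ := (Finset.mem_filter.1 hx).2
      simp only [dif_pos (hN x ha)]
      refine Finset.mem_filter.2 ⟨Finset.mem_univ _, Subgroup.mem_centralizer_singleton_iff.2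
        (Subtype.ext ?_)⟩
      have h1 : Commute (n : G) x0 := hx2
      exact ((h1.inv_right).mul_right (show Commute (n : G) x from hb)).eq.symm
    · simp only [dif_pos (hN x (Finset.mem_filter.1 hx).2.1),
        dif_pos (hN y (Finset.mem_filter.1 hy).2.1)] at e
      exact mul_left_cancel (congrArg Subtype.val e)
  have h2 : Nat.card (ConjClasses G) * Nat.card G ≤
      (Nat.card (ConjClasses N) * Nat.card (ConjClasses (G ⧸ N))) * Nat.card G := by
    rw [← sum_centralizer (G := G)]
    refine (Finset.sum_le_sum fun x _ => hA x).trans ?_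
    rw [← Finset.sum_fiberwise Finset.univ π]
    calc ∑ c : G ⧸ N, ∑ x ∈ Finset.univ.filter (fun x : G => π x = c),
          cN x * Nat.card (Subgroup.centralizer ({π x} : Set (G ⧸ N)))
        ≤ ∑ c : G ⧸ N, (Nat.card (ConjClasses N) * Nat.card N) *
            Nat.card (Subgroup.centralizer ({c} : Set (G ⧸ N))) := by
          refine Finset.sum_le_sum fun c _ => ?_
          rw [Finset.sum_congr rfl (fun x hx => by rw [(Finset.mem_filter.1 hx).2]),
            ← Finset.sum_mul]
          exact Nat.mul_le_mul_right _ (hB c)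
      _ = _ := by
          rw [← Finset.mul_sum, sum_centralizer, ← N.card_mul_index, Subgroup.index_eq_card]
          ring
  exact Nat.le_of_mul_le_mul_right h2 Nat.card_pos

/-- Classes over a homomorphism. -/
theorem classes_le_ker_range {Q : Type v} [Group Q] (f : G →* Q) :
    Nat.card (ConjClasses G) ≤ Nat.card (ConjClasses f.ker) * Nat.card (ConjClasses f.range) := by
  refine (classes_le_mul_quot f.ker).trans (Nat.mul_le_mul_left _ (le_of_eq ?_))
  refine (Nat.card_congr (Equiv.ofBijective
    (ConjClasses.map (QuotientGroup.quotientKerEquivRange f).toMonoidHom)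
    ⟨fun a b h => ?_, ConjClasses.map_surjective (QuotientGroup.quotientKerEquivRange f).surjective⟩))
  obtain ⟨x, rfl⟩ := ConjClasses.exists_rep a
  obtain ⟨y, rfl⟩ := ConjClasses.exists_rep b
  have h1 := (QuotientGroup.quotientKerEquivRange f).symm.toMonoidHom.map_isConj
    (ConjClasses.mk_eq_mk_iff_isConj.1 h)
  simp only [MulEquiv.coe_toMonoidHom, MulEquiv.symm_apply_apply] at h1
  exact ConjClasses.mk_eq_mk_iff_isConj.2 h1

/-- The bound from the derived subgroup. -/
theorem four_classes_le : 4 * Nat.card (ConjClasses G) ≤ Nat.card G + 3 * (commutator G).index := by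
  classical
  haveI := Fintype.ofFinite G
  have hsum : ∑ χ : IrrCharacter G, charDegree (χ : G → ℂ) ^ 2 = Nat.card G := by
    have h := Cfsg.Agent.Char.sum_sq_deg (G := G)
    simp only [Cfsg.Agent.Char.charDegree_spec] at h
    exact_mod_cast h
  have hlin : (Finset.univ.filter fun χ : IrrCharacter G => charDegree (χ : G → ℂ) = 1).card =
      (commutator G).index := by
    rw [← Cfsg.Agent.Char.card_linear, Nat.card_eq_fintype_card, Fintype.card_subtype]
    refine congrArg Finset.card (Finset.filter_congr fun χ _ => ?_)
    rw [Cfsg.Agent.Char.charDegree_spec, Nat.cast_eq_one]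
  have key : ∀ χ : IrrCharacter G, 4 ≤ charDegree (χ : G → ℂ) ^ 2 +
      3 * (if charDegree (χ : G → ℂ) = 1 then 1 else 0) := by
    intro χ
    have h1 := Cfsg.Agent.Char.charDegree_pos' χ
    split_ifs with h
    · rw [h]; norm_num
    · have : 2 ≤ charDegree (χ : G → ℂ) := by omega
      have := Nat.pow_le_pow_left this 2
      omega
  have h := Finset.sum_le_sum (s := (Finset.univ : Finset (IrrCharacter G))) fun χ _ => key χ
  rw [Finset.sum_const, Finset.card_univ, smul_eq_mul, Finset.sum_add_distrib, hsum,
    ← Finset.mul_sum, ← Finset.card_filter, hlin, ← Nat.card_eq_fintype_card,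
    Cfsg.Agent.Char.card_irr] at h
  omega

/-- Five eighths. -/
theorem eight_classes_le (h : ¬∀ a b : G, a * b = b * a) :
    8 * Nat.card (ConjClasses G) ≤ 5 * Nat.card G := by
  have h1 : 2 ≤ Nat.card (commutator G) := by
    refine Nat.succ_le_of_lt ((Finite.one_lt_card_iff_nontrivial).2
      ((Subgroup.nontrivial_iff_ne_bot _).2 fun h0 => h fun a b => ?_))
    have : ⁅a, b⁆ ∈ commutator G := by
      rw [commutator_def]
      exact Subgroup.commutator_mem_commutator (Subgroup.mem_top _) (Subgroup.mem_top _)
    rw [h0, Subgroup.mem_bot, commutatorElement_eq_one_iff_mul_comm] at this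
    exact this
  have h2 := four_classes_le (G := G)
  have h3 := (commutator G).card_mul_index
  have h4 := Nat.mul_le_mul_right (commutator G).index h1
  omega

end Cfsg.Agent.Solv.LayerCls
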