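import Cfsg.Agent.Lib.Solv.LayerClasses.Main
import Cfsg.Agent.Lib.Solv.ClassFortyNine.Layer
import Cfsg.Agent.Lib.Solv.OddPair.Fixed
import Cfsg.Agent.Lib.Char.SelfDualModule
import Cfsg.Agent.Lib.Small.AltDeg.Weight
import Cfsg.Agent.Lib.Solv.Cores

/-!
Soluble groups of complex matrices of degree `r`: modulo the Fitting subgroup every subgroup has
at most `3 ^ (r - 1)` classes.
-/

set_option autoImplicit false
set_option linter.unusedSectionVars false
set_option linter.style.haveILetI false
set_option maxHeartbeats 800000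

namespace Cfsg.Agent.Solv.LayerCls

open Cfsg.Agent.Solv.OddPair (kerV mem_kerV quotAct quot_faithful cr_quot Extra MaxAb exists_extra chi eigvec_indep)
open Cfsg.Agent.Solv.C49 (exists_td index_ker_le_three_pow)
open Cfsg.Agent.Small.AltDeg (wt mem_wt wt_indep exists_wt)
open Cfsg (fittingSubgroup)
open Module

/-- Every subgroup has at most `b` classes modulo any normal subgroup above the Fitting subgroup. -/
def Bd (A : Type) [Group A] (b : ℕ) : Prop :=
  ∀ (N : Subgroup A) [N.Normal], fittingSubgroup A ≤ N → ∀ H : Subgroup A,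
    Nat.card (ConjClasses (H.map (QuotientGroup.mk' N))) ≤ b

variable {A : Type} [Group A] [Finite A]

/-- The image in a further quotient. -/
theorem classes_map_le {K N : Subgroup A} [K.Normal] [N.Normal] (h : K ≤ N) (H : Subgroup A) :
    Nat.card (ConjClasses (H.map (QuotientGroup.mk' N))) ≤
      Nat.card (ConjClasses (H.map (QuotientGroup.mk' K))) := by
  have h' : K ≤ N.comap (MonoidHom.id A) := h
  let f : A ⧸ K →* A ⧸ N := QuotientGroup.map K N (MonoidHom.id A) h'
  let g : H.map (QuotientGroup.mk' K) →* H.map (QuotientGroup.mk' N) :=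
    (f.comp (H.map (QuotientGroup.mk' K)).subtype).codRestrict _ fun x => by
      obtain ⟨_, y, hy, rfl⟩ := x
      exact ⟨y, hy, rfl⟩
  refine classes_quot_le g fun x => ?_
  obtain ⟨_, y, hy, rfl⟩ := x
  exact ⟨⟨_, y, hy, rfl⟩, rfl⟩

/-- Passing to a normal subgroup. -/
theorem bd_index {B : Subgroup A} [hBn : B.Normal] {b : ℕ} (h : Bd B b) : Bd A (B.index * b) := by
  intro N hN hFN H
  have hF : fittingSubgroup B ≤ N.subgroupOf B := by
    intro x hx
    haveI hc : (fittingSubgroup B).Characteristic := by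
      refine Subgroup.characteristic_iff_le_comap.2 fun φ => sSup_le ?_
      rintro M ⟨hM, hMn⟩ y hy
      haveI := hM
      haveI : (M.map φ.toMonoidHom).Normal := hM.map _ φ.surjective
      haveI := hMn
      exact Solv.normal_le_fitting (N := M.map φ.toMonoidHom) (Group.nilpotent_of_surjective
        (φ.toMonoidHom.subgroupMap M) (φ.toMonoidHom.subgroupMap_surjective M)) ⟨y, hy, rfl⟩
    haveI : ((fittingSubgroup B).map B.subtype).Normal := inferInstance
    haveI : Group.IsNilpotent (fittingSubgroup B) := Solv.fittingSubgroup_nilpotent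
    exact hFN (Solv.normal_le_fitting (N := (fittingSubgroup B).map B.subtype) (Group.nilpotent_of_surjective
      (B.subtype.subgroupMap (fittingSubgroup B)) (B.subtype.subgroupMap_surjective _)) ⟨x, hx, rfl⟩)
  let f := (QuotientGroup.mk' N).subgroupMap H
  have hf : Function.Surjective f := MonoidHom.subgroupMap_surjective _ _
  refine (classes_le_index_mul ((B.subgroupOf H).map f)).trans (Nat.mul_le_mul ?_ ?_)
  · refine (Nat.le_of_dvd (Nat.pos_of_ne_zero Subgroup.index_ne_zero_of_finite)
      (Subgroup.index_map_dvd _ hf)).trans ?_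
    have h2 : B.relIndex H ≤ B.relIndex ⊤ := Subgroup.relIndex_le_of_le_right le_top
      (by rw [Subgroup.relIndex_top_right]; exact Subgroup.index_ne_zero_of_finite)
    rwa [Subgroup.relIndex_top_right] at h2
  · refine le_trans ?_ (h (N.subgroupOf B) hF (H.subgroupOf B))
    let j : B ⧸ N.subgroupOf B →* A ⧸ N :=
      QuotientGroup.map _ N B.subtype (fun _ hx => hx)
    let g : (H.subgroupOf B).map (QuotientGroup.mk' (N.subgroupOf B)) →* (B.subgroupOf H).map f :=
      { toFun := fun x => ⟨⟨j (x : B ⧸ N.subgroupOf B), by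
          obtain ⟨_, y, hy, rfl⟩ := x
          exact ⟨(y : A), hy, rfl⟩⟩, by
          obtain ⟨_, y, hy, rfl⟩ := x
          exact ⟨⟨(y : A), hy⟩, y.2, Subtype.ext rfl⟩⟩
        map_one' := Subtype.ext (Subtype.ext (map_one j))
        map_mul' := fun x y => Subtype.ext (Subtype.ext (map_mul j (x : B ⧸ N.subgroupOf B) (y : B ⧸ N.subgroupOf B))) }
    refine classes_quot_le g fun x => ?_
    obtain ⟨_, y, hy, rfl⟩ := x
    exact ⟨⟨_, ⟨(y : A), hy⟩, y.2, rfl⟩, Subtype.ext (Subtype.ext rfl)⟩

/-- A group inside a product. -/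
theorem classes_family {R : Type} [Group R] [Finite R] {ι : Type*} [Fintype ι] (Q : ι → Type)
    [∀ i, Group (Q i)] [∀ i, Finite (Q i)] (g : ∀ i, R →* Q i) (b : ι → ℕ)
    (hb : ∀ i, ∀ U : Subgroup R, Nat.card (ConjClasses (U.map (g i))) ≤ b i)
    (hinj : ∀ x, (∀ i, g i x = 1) → x = 1) : Nat.card (ConjClasses R) ≤ ∏ i, b i := by
  classical
  have step : ∀ S : Finset ι, Nat.card (ConjClasses R) ≤
      Nat.card (ConjClasses (⨅ i ∈ S, (g i).ker : Subgroup R)) * ∏ i ∈ S, b i := by
    intro S
    induction S using Finset.induction_on with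
    | empty =>
      rw [Finset.prod_empty, mul_one]
      refine classes_quot_le (Subgroup.subtype _) fun x => ⟨⟨x, ?_⟩, rfl⟩
      simp
    | insert k S hk ih =>
      rw [Finset.prod_insert hk, ← mul_assoc]
      refine ih.trans (Nat.mul_le_mul_right _ ?_)
      obtain ⟨K, hK⟩ : ∃ K : Subgroup R, K = ⨅ i ∈ S, (g i).ker := ⟨_, rfl⟩
      rw [← hK]
      let f := (g k).comp K.subtype
      refine (classes_le_ker_range f).trans (Nat.mul_le_mul ?_ ?_)
      · have hle : ∀ y : R, y ∈ (⨅ i ∈ insert k S, (g i).ker : Subgroup R) ↔ y ∈ (g k).ker ∧ y ∈ K := by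
          intro y
          rw [Finset.iInf_insert, Subgroup.mem_inf, ← hK]
        exact classes_quot_le
          ({ toFun := fun y => ⟨⟨y, ((hle y).1 y.2).2⟩, ((hle y).1 y.2).1⟩
             map_one' := rfl
             map_mul' := fun _ _ => rfl } :
            (⨅ i ∈ insert k S, (g i).ker : Subgroup R) →* f.ker)
          fun x => ⟨⟨_, (hle (x : K)).2 ⟨x.2, (x : K).2⟩⟩, rfl⟩
      · have hr : f.range = K.map (g k) := by
          rw [MonoidHom.range_comp, Subgroup.range_subtype]
        rw [hr]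
        exact hb k K
  refine (step Finset.univ).trans (le_trans (Nat.mul_le_mul_right _ ?_) (one_mul _).le)
  refine card_classes_le_card.trans (Finite.card_le_one_iff_subsingleton.2 ⟨fun x y => ?_⟩)
  have key : ∀ z : (⨅ i ∈ (Finset.univ : Finset ι), (g i).ker : Subgroup R), (z : R) = 1 := fun z =>
    hinj _ fun i => MonoidHom.mem_ker.1 (Subgroup.mem_iInf.1 (Subgroup.mem_iInf.1 z.2 i) (Finset.mem_univ i))
  exact Subtype.ext ((key x).trans (key y).symm)

/-- The bound in all degrees below `r`. -/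
def Below (r : ℕ) : Prop :=
  ∀ d < r, ∀ (A : Type) [Group A] [Finite A] (V : Type) [AddCommGroup V] [Module ℂ V]
    [FiniteDimensional ℂ V] (ρ : A →* Module.End ℂ V), Group.IsSolvable A → Function.Injective ρ →
      finrank ℂ V = d → 1 ≤ d → Bd A (3 ^ (d - 1))

variable {V : Type} [AddCommGroup V] [Module ℂ V] [FiniteDimensional ℂ V]

/-- Dimensions of independent subspaces. -/
theorem sum_finrank_le {ι : Type*} [Fintype ι] (W : ι → Submodule ℂ V) (h : iSupIndep W) :
    ∑ i, finrank ℂ (W i) ≤ finrank ℂ V := by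
  classical
  have key : ∀ s : Finset ι, finrank ℂ (s.sup W : Submodule ℂ V) = ∑ i ∈ s, finrank ℂ (W i) := by
    intro s
    induction s using Finset.induction_on with
    | empty => simp
    | insert i s hi ih =>
      rw [Finset.sup_insert, Finset.sum_insert hi, ← ih]
      have hd : Disjoint (W i) (s.sup W) := by
        rw [Finset.sup_eq_iSup]
        exact h.disjoint_biSup (y := {j | j ∈ s}) hi
      have h1 := Submodule.finrank_sup_add_finrank_inf_eq (W i) (s.sup W)
      rw [hd.eq_bot, finrank_bot, add_zero] at h1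
      exact h1
  rw [← key]
  exact Submodule.finrank_le _

/-- A proper piece: a normal subgroup nilpotent on the piece, with few classes modulo it. -/
theorem exists_piece {r : ℕ} (hB : Below r) (hsol : Group.IsSolvable A) (ρ : A →* Module.End ℂ V)
    (W : Submodule ℂ V) (hW : ∀ a : A, ∀ x ∈ W, ρ a x ∈ W) (h1 : 1 ≤ finrank ℂ W)
    (hlt : finrank ℂ W < r) :
    ∃ (K : Subgroup A) (_ : K.Normal),
      (∃ (P : Type) (_ : Group P) (φ : K →* P), Group.IsNilpotent P ∧
        ∀ x : K, φ x = 1 → ∀ w ∈ W, ρ (x : A) w = w) ∧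
      ∀ H : Subgroup A, Nat.card (ConjClasses (H.map (QuotientGroup.mk' K))) ≤ 3 ^ (finrank ℂ W - 1) := by
  obtain ⟨L, hLdef⟩ : ∃ L, L = (Solv.CRep.subRep ρ W hW).ker := ⟨_, rfl⟩
  haveI hLn : L.Normal := hLdef ▸ MonoidHom.normal_ker _
  let σ : A ⧸ L →* Module.End ℂ W := QuotientGroup.lift L (Solv.CRep.subRep ρ W hW) hLdef.le
  have hσ : Function.Injective σ := by
    refine (injective_iff_map_eq_one σ).2 fun x hx => ?_
    obtain ⟨a, rfl⟩ := QuotientGroup.mk_surjective x
    exact (QuotientGroup.eq_one_iff a).2 (hLdef.ge hx)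
  haveI := hsol
  have hb := hB _ hlt (A ⧸ L) W σ
    (Group.isSolvable_of_surjective (QuotientGroup.mk'_surjective _)) hσ rfl h1
  obtain ⟨F, hF⟩ : ∃ F, F = fittingSubgroup (A ⧸ L) := ⟨_, rfl⟩
  haveI hFn : F.Normal := hF ▸ Solv.fittingSubgroup_normal
  have hFnil : Group.IsNilpotent F := hF ▸ Solv.fittingSubgroup_nilpotent
  obtain ⟨K, hK⟩ : ∃ K, K = F.comap (QuotientGroup.mk' L) := ⟨_, rfl⟩
  haveI hKn : K.Normal := hK ▸ inferInstance
  refine ⟨K, hKn, ⟨F, inferInstance,
    ((QuotientGroup.mk' L).comp K.subtype).codRestrict F (fun x => hK.le x.2), hFnil, fun x hx w hw => ?_⟩,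
    fun H => ?_⟩
  · have h2 : (x : A) ∈ L := (QuotientGroup.eq_one_iff _).1 (congrArg Subtype.val hx :)
    rw [hLdef] at h2
    exact congrArg Subtype.val (LinearMap.congr_fun (MonoidHom.mem_ker.1 h2) ⟨w, hw⟩)
  · let j : (A ⧸ L) ⧸ F →* A ⧸ K := QuotientGroup.lift F
      (QuotientGroup.map L K (MonoidHom.id A) fun x hx => hK.ge (by
        show (QuotientGroup.mk' L) x ∈ F
        rw [show (QuotientGroup.mk' L) x = 1 from (QuotientGroup.eq_one_iff x).2 hx]
        exact F.one_mem))
      fun x hx => by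
        obtain ⟨a, rfl⟩ := QuotientGroup.mk_surjective x
        exact MonoidHom.mem_ker.2 ((QuotientGroup.eq_one_iff (N := K) a).2 (hK.ge hx))
    refine le_trans ?_ (hb F hF.ge (H.map (QuotientGroup.mk' L)))
    let g : (H.map (QuotientGroup.mk' L)).map (QuotientGroup.mk' F) →* H.map (QuotientGroup.mk' K) :=
      (j.comp (Subgroup.subtype _)).codRestrict _ fun x => by
        obtain ⟨_, _, ⟨a, ha, rfl⟩, rfl⟩ := x
        exact ⟨a, ha, rfl⟩
    refine classes_quot_le g fun x => ?_
    obtain ⟨_, a, ha, rfl⟩ := x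
    exact ⟨⟨_, _, ⟨a, ha, rfl⟩, rfl⟩, rfl⟩

/-- Several invariant summands. -/
theorem bd_pieces {r : ℕ} (hB : Below r) (hsol : Group.IsSolvable A) (ρ : A →* Module.End ℂ V)
    (hρ : Function.Injective ρ) {ι : Type*} [Fintype ι] (W : ι → Submodule ℂ V)
    (hinv : ∀ i, ∀ a : A, ∀ x ∈ W i, ρ a x ∈ W i) (hind : iSupIndep W) (htop : ⨆ i, W i = ⊤)
    (hne : ∀ i, W i ≠ ⊥) (hr : finrank ℂ V = r) (h2 : 2 ≤ Fintype.card ι) :
    Bd A (3 ^ (r - Fintype.card ι)) := by
  classical
  have hd1 : ∀ i, 1 ≤ finrank ℂ (W i) := fun i =>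
    Nat.pos_of_ne_zero fun h => hne i (Submodule.finrank_eq_zero.1 h)
  have hsum := sum_finrank_le W hind
  rw [hr] at hsum
  have hlt : ∀ i, finrank ℂ (W i) < r := by
    intro i
    obtain ⟨j, hj⟩ : ∃ j, j ≠ i := Fintype.exists_ne_of_one_lt_card (by omega) i
    calc finrank ℂ (W i) < finrank ℂ (W i) + finrank ℂ (W j) := Nat.lt_add_of_pos_right (hd1 j)
      _ = ∑ k ∈ ({i, j} : Finset ι), finrank ℂ (W k) := by rw [Finset.sum_pair hj.symm]
      _ ≤ ∑ k, finrank ℂ (W k) := Finset.sum_le_sum_of_subset (Finset.subset_univ _)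
      _ ≤ r := hsum
  choose Kf hKfn hφ hg using fun i => exists_piece hB hsol ρ (W i) (hinv i) (hd1 i) (hlt i)
  choose P hPg φ hPn hφ1 using hφ
  obtain ⟨K, hK⟩ : ∃ K : Subgroup A, K = ⨅ i, Kf i := ⟨_, rfl⟩
  haveI hKn : K.Normal := hK ▸ Subgroup.normal_iInf_normal hKfn
  have hKi : ∀ i, K ≤ Kf i := fun i => hK.le.trans (iInf_le _ i)
  have hKF : K ≤ fittingSubgroup A := by
    refine Solv.normal_le_fitting ?_
    let ψ : K →* (∀ i, P i) := MonoidHom.mk' (fun x i => φ i ⟨(x : A), hKi i x.2⟩)
      (fun x y => funext fun i => map_mul (φ i) ⟨(x : A), hKi i x.2⟩ ⟨(y : A), hKi i y.2⟩)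
    haveI := hPn
    refine Subgroup.isNilpotent_of_ker_le_center ψ fun x hx => ?_
    have h1 : ρ (x : A) = 1 := by
      refine LinearMap.ext fun v => ?_
      have hv : v ∈ ⨆ i, W i := htop ▸ Submodule.mem_top
      refine Submodule.iSup_induction W (motive := fun v => ρ (x : A) v = v) hv (fun i w hw => ?_)
        (map_zero _) fun u w hu hw => by rw [map_add, hu, hw]
      exact hφ1 i ⟨(x : A), hKi i x.2⟩ (congrFun (MonoidHom.mem_ker.1 hx) i) w hw
    rw [show x = 1 from Subtype.ext (hρ (h1.trans (map_one ρ).symm))]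
    exact Subgroup.one_mem _
  intro N hN hFN H
  refine (classes_map_le (hKF.trans hFN) H).trans ?_
  haveI := hKfn
  let gb : ∀ i, A ⧸ K →* A ⧸ Kf i := fun i =>
    QuotientGroup.map K (Kf i) (MonoidHom.id A) (hKi i)
  have h3 := classes_family (R := H.map (QuotientGroup.mk' K)) (fun i => A ⧸ Kf i)
    (fun i => (gb i).comp (H.map (QuotientGroup.mk' K)).subtype) (fun i => 3 ^ (finrank ℂ (W i) - 1))
    (fun i U => by
      refine le_of_eq_of_le ?_ (hg i ((U.map (H.map (QuotientGroup.mk' K)).subtype).comap (QuotientGroup.mk' K)))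
      rw [show QuotientGroup.mk' (Kf i) = (gb i).comp (QuotientGroup.mk' K) from MonoidHom.ext fun _ => rfl,
        ← Subgroup.map_map, ← Subgroup.map_map,
        Subgroup.map_comap_eq_self_of_surjective (QuotientGroup.mk'_surjective K)])
    (fun x hx => by
      obtain ⟨_, a, ha, rfl⟩ := x
      refine Subtype.ext ((QuotientGroup.eq_one_iff a).2 ?_)
      rw [hK, Subgroup.mem_iInf]
      exact fun i => (QuotientGroup.eq_one_iff a).1 (hx i))
  refine h3.trans ?_
  rw [Finset.prod_pow_eq_pow_sum]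
  refine Nat.pow_le_pow_right (by norm_num) ?_
  have h4 : ∑ i, (finrank ℂ (W i) - 1) + Fintype.card ι = ∑ i, finrank ℂ (W i) := by
    rw [← Finset.card_univ, Finset.card_eq_sum_ones, ← Finset.sum_add_distrib]
    exact Finset.sum_congr rfl fun i _ => by have := hd1 i; omega
  omega

/-- The layer is no larger than the degree. -/
theorem layer_size_le [Nontrivial V] {Z E : Subgroup A} [Z.Normal] (hx : Extra Z E)
    (ρ : A →* Module.End ℂ V) (ι : Z →* ℂ) (hι : Function.Injective ι)
    (hιsmul : ∀ (z : Z) (x : V), ρ (z : A) x = ι z • x) :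
    Z.relIndex E ≤ finrank ℂ V * finrank ℂ V := by
  classical
  obtain ⟨v0, hv0⟩ := exists_ne (0 : V)
  let t : E ⧸ Z.subgroupOf E → A := fun i => (i.out : E)
  let χ : E ⧸ Z.subgroupOf E → E →* ℂ := fun i =>
    chi ι E hx.le_centralizer (t i) fun m hm => hx.inZ _ (i.out).2 m hm
  have hχ : Function.Injective χ := by
    intro i j hij
    rw [← QuotientGroup.out_eq' i, ← QuotientGroup.out_eq' j]
    refine QuotientGroup.eq.2 (hx.center_le _ (E.mul_mem (E.inv_mem i.out.2) j.out.2) fun m hm => ?_)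
    have h1 := DFunLike.congr_fun hij ⟨m, hm⟩
    rw [Cfsg.Agent.Solv.OddPair.chi_apply, Cfsg.Agent.Solv.OddPair.chi_apply] at h1
    have h2 : t i * m * (t i)⁻¹ = t j * m * (t j)⁻¹ :=
      mul_right_cancel (congrArg Subtype.val (hι h1))
    show (t i)⁻¹ * t j * m = m * ((t i)⁻¹ * t j)
    calc (t i)⁻¹ * t j * m
        = (t i)⁻¹ * (t j * m * (t j)⁻¹) * t j := by group
      _ = (t i)⁻¹ * (t i * m * (t i)⁻¹) * t j := by rw [h2]
      _ = m * ((t i)⁻¹ * t j) := by group
  let L : E → Module.End ℂ V →ₗ[ℂ] Module.End ℂ V := fun h =>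
    { toFun := fun T => ρ (h : A)⁻¹ * T * ρ (h : A)
      map_add' := fun S T => by rw [mul_add, add_mul]
      map_smul' := fun k T => by rw [RingHom.id_apply, mul_smul_comm, smul_mul_assoc] }
  haveI := Fintype.ofFinite (E ⧸ Z.subgroupOf E)
  have hLI := eigvec_indep χ hχ L (fun i => ρ (t i))
    (fun i h => hv0 (Solv.CRep.rep_injective ρ (t i) (by rw [h, map_zero]; rfl)))
    (fun h i => by
      refine LinearMap.ext fun x => ?_
      show (ρ (h : A)⁻¹ * ρ (t i) * ρ (h : A)) x =
        ι ⟨t i * h * (t i)⁻¹ * (h : A)⁻¹, _⟩ • ρ (t i) x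
      rw [← hιsmul, ← map_mul, ← map_mul, ← Module.End.mul_apply, ← map_mul]
      refine congrArg (fun a => ρ a x) ?_
      obtain ⟨w, hw⟩ : ∃ w, w = t i * h * (t i)⁻¹ * (h : A)⁻¹ := ⟨_, rfl⟩
      have hwZ : w ∈ Z := hw ▸ hx.inZ _ (i.out).2 h h.2
      have h1 := Subgroup.mem_centralizer_iff.1 (hx.le_centralizer (E.inv_mem h.2)) w hwZ
      show (h : A)⁻¹ * t i * h = t i * h * (t i)⁻¹ * (h : A)⁻¹ * t i
      rw [← hw]
      calc (h : A)⁻¹ * t i * h = (h : A)⁻¹ * w * h * t i := by rw [hw]; group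
        _ = w * t i := by rw [← h1, inv_mul_cancel_right])
  have h1 := hLI.fintype_card_le_finrank
  rwa [Module.finrank_linearMap, ← Nat.card_eq_fintype_card, ← Subgroup.index_eq_card,
    ← Subgroup.relIndex] at h1

/-- The bound. -/
theorem linear_bound : ∀ r, Below r := by
  intro r
  induction r with
  | zero => exact fun d hd => absurd hd (by omega)
  | succ r ih =>
    intro d hd A _ _ V _ _ _ ρ hsol hρ hdim hd1
    rcases Nat.lt_or_ge d r with h | h
    · exact ih d h A V ρ hsol hρ hdim hd1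
    obtain rfl : d = r := by omega
    classical
    haveI : Nontrivial V := Module.finrank_pos_iff.1 (by omega : 0 < finrank ℂ V)
    haveI : NeZero (Nat.card A : ℂ) := ⟨Nat.cast_ne_zero.2 Nat.card_pos.ne'⟩
    have hwk : ∀ b, b ≤ 3 ^ (d - 1) → Bd A b → Bd A (3 ^ (d - 1)) :=
      fun b hb h N _ hN H => (h N hN H).trans hb
    by_cases hirr : ∀ U : Submodule ℂ V, (∀ a, ∀ x ∈ U, ρ a x ∈ U) → U = ⊥ ∨ U = ⊤
    swap
    · push Not at hirr
      obtain ⟨U, hU, hU0, hU1⟩ := hirr
      obtain ⟨R, hR, hc⟩ := Char.SelfDual.exists_inv_compl ρ (T := U) hU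
      have hR0 : R ≠ ⊥ := fun h => hU1 (by simpa [h] using hc.sup_eq_top)
      refine hwk _ ?_ (bd_pieces ih hsol ρ hρ (fun b : Bool => if b then U else R)
        (fun b => by cases b <;> assumption) ?_ ?_ (fun b => by cases b <;> assumption) hdim (by simp))
      · exact Nat.pow_le_pow_right (by norm_num) (by simp; omega)
      · rw [iSupIndep_pair (i := true) (j := false) (by simp) (by simp)]
        exact hc.disjoint
      · rw [iSup_bool_eq]
        exact hc.sup_eq_top
    by_cases hsc : ∀ N : Subgroup A, N.Normal → (∀ x ∈ N, ∀ y ∈ N, Commute x y) →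
        ∀ n ∈ N, ∃ c : ℂ, ∀ x, ρ n x = c • x
    swap
    · -- the blocks of a non-scalar abelian normal subgroup
      push Not at hsc
      obtain ⟨N, hN, hNc, n0, hn0, hnc⟩ := hsc
      let f : N → Module.End ℂ V := fun n => ρ n
      have hfc : ∀ i j, Commute (f i) (f j) := fun i j => (hNc i i.2 j j.2).map ρ
      let Λ := {χ : N → ℂ // wt f χ ≠ ⊥}
      have hind : iSupIndep fun χ : Λ => wt f χ.1 := (wt_indep f hfc).comp Subtype.val_injective
      haveI : Fintype Λ := iSupIndep.fintypeNeBotOfFiniteDimensional (wt_indep f hfc)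
      obtain ⟨χ0, hχ0⟩ := exists_wt f hfc
      haveI : Nonempty Λ := ⟨⟨χ0, hχ0⟩⟩
      let cj : A → N → N := fun a n => ⟨a⁻¹ * n * a, by simpa using hN.conj_mem n n.2 a⁻¹⟩
      have hmove : ∀ (a : A) (χ : N → ℂ) (x : V), x ∈ wt f χ → ρ a x ∈ wt f (fun n => χ (cj a n)) := by
        intro a χ x hx
        refine mem_wt.2 fun n => ?_
        have h1 := mem_wt.1 hx (cj a n)
        show ρ (n : A) (ρ a x) = χ (cj a n) • ρ a x
        rw [← map_smul, ← h1, ← Module.End.mul_apply, ← map_mul, ← Module.End.mul_apply, ← map_mul]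
        congr 2
        show (n : A) * a = a * (a⁻¹ * n * a)
        group
      letI act : MulAction A Λ :=
        { smul := fun a χ => ⟨fun n => χ.1 (cj a n), fun h => χ.2 ((Submodule.eq_bot_iff _).2 fun x hx => by
            have h1 := hmove a χ.1 x hx
            rw [h, Submodule.mem_bot] at h1
            exact Solv.CRep.rep_injective ρ a (h1.trans (map_zero _).symm))⟩
          one_smul := fun χ => Subtype.ext (funext fun n => congrArg χ.1 (Subtype.ext (by simp [cj])))
          mul_smul := fun a b χ => Subtype.ext (funext fun n => congrArg χ.1 (Subtype.ext (by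
            simp [cj, mul_assoc]))) }
      have htop : ⨆ χ : Λ, wt f χ.1 = ⊤ := by
        refine (hirr _ fun a x hx => ?_).resolve_left fun h => hχ0 (le_bot_iff.1 (h ▸
          le_iSup (fun χ : Λ => wt f χ.1) ⟨χ0, hχ0⟩))
        refine Submodule.iSup_induction _ (motive := fun x => ρ a x ∈ ⨆ χ : Λ, wt f χ.1) hx
          (fun χ w hw => le_iSup (fun χ : Λ => wt f χ.1) (a • χ) (hmove a χ.1 w hw))
          (by rw [map_zero]; exact Submodule.zero_mem _) fun u w hu hw => by
            rw [map_add]; exact Submodule.add_mem _ hu hw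
      have ht2 : 2 ≤ Fintype.card Λ := by
        by_contra hlt
        haveI : Subsingleton Λ := Fintype.card_le_one_iff_subsingleton.1 (by omega)
        haveI : Unique Λ := uniqueOfSubsingleton ⟨χ0, hχ0⟩
        rw [iSup_unique] at htop
        obtain ⟨x, hx⟩ := hnc ((default : Λ).1 ⟨n0, hn0⟩)
        exact hx (mem_wt.1 (htop ▸ Submodule.mem_top) ⟨n0, hn0⟩)
      let π := MulAction.toPermHom A Λ
      have hidx := index_ker_le_three_pow A Λ hsol
      rw [Nat.card_eq_fintype_card] at hidx
      have hle : ∀ χ : Λ, 1 ≤ finrank ℂ (wt f χ.1) := fun χ =>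
        Nat.pos_of_ne_zero fun h => χ.2 (Submodule.finrank_eq_zero.1 h)
      have htd : Fintype.card Λ ≤ d := by
        have h1 := sum_finrank_le _ hind
        rw [hdim] at h1
        refine le_trans ?_ h1
        rw [← Finset.card_univ, Finset.card_eq_sum_ones]
        exact Finset.sum_le_sum fun χ _ => hle χ
      haveI := hsol
      refine hwk _ ?_ (bd_index (B := π.ker) (bd_pieces ih
        (Group.isSolvable_of_isSolvable_injective (Subgroup.subtype_injective π.ker))
        (ρ.comp π.ker.subtype) (hρ.comp Subtype.val_injective) _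
        (fun χ a x hx => by
          have h1 := hmove a χ.1 x hx
          have h2 : ((a : A) • χ) = χ := Equiv.Perm.congr_fun (MonoidHom.mem_ker.1 a.2) χ
          exact (congrArg Subtype.val h2 : (fun n => χ.1 (cj a n)) = χ.1) ▸ h1)
        hind htop (fun χ => χ.2) hdim ht2))
      refine (Nat.mul_le_mul_right _ hidx).trans ?_
      rw [← pow_add]
      exact Nat.pow_le_pow_right (by norm_num) (by omega)
    -- the symplectic layer
    obtain ⟨Z, hZ⟩ : ∃ Z, Z = Subgroup.center A := ⟨_, rfl⟩
    haveI : Z.Normal := hZ ▸ inferInstance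
    have hZc : ∀ x ∈ Z, ∀ y ∈ Z, Commute x y := fun x hx y _ =>
      (Subgroup.mem_center_iff.1 (hZ ▸ hx) y).symm
    have hmax : MaxAb Z := fun M hM hMc _ x hx => hZ ▸ Subgroup.mem_center_iff.2 fun a => by
      obtain ⟨c, hc⟩ := hsc M hM hMc x hx
      refine hρ (LinearMap.ext fun v => ?_)
      rw [map_mul, map_mul, Module.End.mul_apply, Module.End.mul_apply, hc, hc, map_smul]
    choose c hc using fun z : Z => hsc Z inferInstance hZc z z.2
    obtain ⟨v0, hv0⟩ := exists_ne (0 : V)
    let ι : Z →* ℂ :=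
      { toFun := c
        map_one' := smul_left_injective ℂ hv0 (by
          show c 1 • v0 = (1 : ℂ) • v0
          rw [← hc, one_smul, OneMemClass.coe_one, map_one, Module.End.one_apply])
        map_mul' := fun a b => smul_left_injective ℂ hv0 (by
          show c (a * b) • v0 = (c a * c b) • v0
          rw [← hc, Subgroup.coe_mul, map_mul, Module.End.mul_apply, hc, hc, smul_smul, mul_comm]) }
    have hι : Function.Injective ι := fun a b h => Subtype.ext (hρ (LinearMap.ext fun v => by
      rw [hc, hc, show c a = c b from h]))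
    have hC : ∀ a : A, a ∈ Subgroup.centralizer (Z : Set A) := fun a =>
      Subgroup.mem_centralizer_iff.2 fun z hz => (Subgroup.mem_center_iff.1 (hZ ▸ hz) a).symm
    intro N hN hFN H
    by_cases htop : Subgroup.centralizer (Z : Set A) ≤ Z
    · refine le_trans ?_ (Nat.one_le_pow _ _ (by norm_num : 0 < 3))
      have hF : ∀ a : A, a ∈ N := fun a => hFN (Solv.normal_le_fitting (N := Z) (by
        letI : CommGroup Z := { (inferInstance : Group Z) with mul_comm := fun x y => Subtype.ext (hZc x x.2 y y.2) }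
        exact CommGroup.isNilpotent)
        (htop (hC a)))
      refine card_classes_le_card.trans (Finite.card_le_one_iff_subsingleton.2 ⟨fun x y => ?_⟩)
      obtain ⟨_, a, -, rfl⟩ := x
      obtain ⟨_, b, -, rfl⟩ := y
      exact Subtype.ext (((QuotientGroup.eq_one_iff a).2 (hF a)).trans ((QuotientGroup.eq_one_iff b).2 (hF b)).symm)
    obtain ⟨E, hx, hEZ⟩ := exists_extra hsol hZc hmax ι hι htop
    haveI := hx.normal
    obtain ⟨s, hs⟩ := hx.exists_sq ι hι
    obtain ⟨T, _, _, _, ⟨td⟩⟩ := exists_td hx hmax ι hι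
    have hk : kerV A T = E := by
      rw [← td.ker]
      exact (inf_eq_left.2 fun a _ => hC a).symm
    have hEF : E ≤ fittingSubgroup A := by
      refine Solv.normal_le_fitting ?_
      let f : E →* Multiplicative T := MonoidHom.mk' (fun x => Multiplicative.ofAdd (td.θ x))
        (fun x y => congrArg Multiplicative.ofAdd (td.θ_mul x y))
      refine Subgroup.isNilpotent_of_ker_le_center f fun x hx' => Subgroup.mem_center_iff.2 fun y => ?_
      have h1 : (x : A) ∈ Z := (td.eq_zero x).1 (MonoidHom.mem_ker.1 hx' :)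
      rw [hZ] at h1
      exact Subtype.ext (Subgroup.mem_center_iff.1 h1 y)
    have hsd : s ≤ d := by
      have h1 := layer_size_le hx ρ ι hι fun z x => hc z x
      rw [hs, hdim] at h1
      exact Nat.mul_self_le_mul_self_iff.1 h1
    letI := quotAct (A := A) (V := T)
    refine (classes_map_le (K := kerV A T) ((hk.le.trans hEF).trans hFN) H).trans ?_
    refine (layer_classes s (A ⧸ kerV A T) T ?_ (cr_quot td.cr) (td.card.trans hs)
      (fun a h => quot_faithful a h) _).trans (Nat.pow_le_pow_right (by norm_num) (by omega))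
    exact Group.isSolvable_of_surjective (QuotientGroup.mk'_surjective _)

end Cfsg.Agent.Solv.LayerCls
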