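import Cfsg.Agent.Lib.Solv.LayerClasses.Count
import Cfsg.Agent.Lib.Solv.ClassFortyNine.Small

/-!
Class numbers of subgroups of the linear groups of dimension two over prime fields.
-/

set_option autoImplicit false
set_option linter.unusedSectionVars false
set_option linter.style.haveILetI false
set_option linter.unusedVariables false

namespace Cfsg.Agent.Solv.LayerCls

universe u v

/-! ### The field with three elements -/

/-- Two by two matrices over three elements, by entries. -/
abbrev Q3 : Type := (ZMod 3 × ZMod 3) × (ZMod 3 × ZMod 3)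

/-- Product: columns are images of the basis. -/
def qmul (X Y : Q3) : Q3 :=
  ((X.1.1 * Y.1.1 + X.2.1 * Y.1.2, X.1.2 * Y.1.1 + X.2.2 * Y.1.2),
   (X.1.1 * Y.2.1 + X.2.1 * Y.2.2, X.1.2 * Y.2.1 + X.2.2 * Y.2.2))

/-- Invertibility. -/
def qinv (X : Q3) : Prop := X.1.1 * X.2.2 - X.1.2 * X.2.1 ≠ 0

instance : DecidablePred qinv := fun X => inferInstanceAs (Decidable (_ ≠ _))

/-- Centraliser orders. -/
def qc (X : Q3) : ℕ := (Finset.univ.filter fun Y : Q3 => qinv Y ∧ qmul X Y = qmul Y X).card

/-- Scalars. -/
def qscal (X : Q3) : Prop := X.1.2 = 0 ∧ X.2.1 = 0 ∧ X.1.1 = X.2.2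

instance : DecidablePred qscal := fun X => inferInstanceAs (Decidable (_ ∧ _))

theorem qc_facts : (∀ X : Q3, qinv X → ¬qscal X → qc X ≤ 8) ∧
    (Finset.univ.filter fun X : Q3 => qinv X ∧ ¬qscal X ∧ 6 < qc X).card ≤ 18 ∧
    (Finset.univ.filter fun X : Q3 => qinv X ∧ qscal X).card ≤ 2 ∧
    (Finset.univ.filter fun X : Q3 => qinv X).card = 48 := by
  decide +kernel

theorem sum_qc_le (S : Finset Q3) (hS : ∀ X ∈ S, qinv X) {m : ℕ} (hm : S.card = m) (hdvd : m ∣ 48) :
    ∑ X ∈ S, min m (qc X) ≤ 9 * m := by
  classical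
  obtain ⟨h8, h18, h2, -⟩ := qc_facts
  rcases Nat.lt_or_ge m 24 with hlt | hge
  · have hm16 : m ≤ 16 := by
      have : m ∈ Nat.divisors 48 := Nat.mem_divisors.2 ⟨hdvd, by norm_num⟩
      fin_cases this <;> omega
    calc ∑ X ∈ S, min m (qc X) ≤ ∑ X ∈ S, (8 + if qscal X then m - 8 else 0) :=
          Finset.sum_le_sum fun X hX => by
            split_ifs with h
            · omega
            · have := h8 X (hS X hX) h
              omega
      _ = 8 * m + (S.filter qscal).card * (m - 8) := by
          rw [Finset.sum_add_distrib, Finset.sum_const, hm, ← Finset.sum_filter, Finset.sum_const,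
            smul_eq_mul, smul_eq_mul, mul_comm m]
      _ ≤ 8 * m + 2 * (m - 8) := by
          refine Nat.add_le_add_left (Nat.mul_le_mul_right _ ((Finset.card_le_card fun X hX => ?_).trans h2)) _
          rw [Finset.mem_filter] at hX ⊢
          exact ⟨Finset.mem_univ _, hS X hX.1, hX.2⟩
      _ ≤ 9 * m := by omega
  · calc ∑ X ∈ S, min m (qc X)
          ≤ ∑ X ∈ S, (6 + (if qscal X then m - 6 else 0) + (if ¬qscal X ∧ 6 < qc X then 2 else 0)) :=
          Finset.sum_le_sum fun X hX => by
            by_cases h : qscal X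
            · simp only [h, if_true, not_true_eq_false, false_and, if_false]; omega
            · have := h8 X (hS X hX) h
              by_cases h6 : 6 < qc X
              · simp only [h, if_false, not_false_eq_true, true_and, h6, if_true]; omega
              · simp only [h, if_false, not_false_eq_true, true_and, h6]; omega
      _ = 6 * m + (S.filter qscal).card * (m - 6) + (S.filter fun X => ¬qscal X ∧ 6 < qc X).card * 2 := by
          rw [Finset.sum_add_distrib, Finset.sum_add_distrib, Finset.sum_const, hm, ← Finset.sum_filter,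
            ← Finset.sum_filter, Finset.sum_const, Finset.sum_const, smul_eq_mul, smul_eq_mul, smul_eq_mul,
            mul_comm m]
      _ ≤ 6 * m + 2 * (m - 6) + 18 * 2 := by
          refine Nat.add_le_add (Nat.add_le_add_left (Nat.mul_le_mul_right _
            ((Finset.card_le_card fun X hX => ?_).trans h2)) _)
            (Nat.mul_le_mul_right _ ((Finset.card_le_card fun X hX => ?_).trans h18))
          · rw [Finset.mem_filter] at hX ⊢
            exact ⟨Finset.mem_univ _, hS X hX.1, hX.2⟩
          · rw [Finset.mem_filter] at hX ⊢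
            exact ⟨Finset.mem_univ _, hS X hX.1, hX.2⟩
      _ ≤ 9 * m := by omega

section
variable {A : Type u} {T : Type v} [Group A] [Finite A] [AddCommGroup T] [Finite T]
  [DistribMulAction A T]

theorem classes_three (hf : ∀ a : A, (∀ x : T, a • x = x) → a = 1) (hT : Nat.card T = 3 * 3)
    (hexp : ∀ x : T, 3 • x = 0) (U : Subgroup A) : Nat.card (ConjClasses U) ≤ 9 := by
  classical
  haveI : Fact (Nat.Prime 3) := ⟨Nat.prime_three⟩
  letI : Module (ZMod 3) T := AddCommGroup.zmodModule hexp
  have hr : Module.finrank (ZMod 3) T = 2 := by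
    have h := Module.natCard_eq_pow_finrank (K := ZMod 3) (V := T)
    rw [hT, Nat.card_zmod, ← pow_two] at h
    exact (Nat.pow_right_injective (le_of_lt (by norm_num : (2 : ℕ) < 3)) h).symm
  let b := Module.finBasisOfFinrankEq (ZMod 3) T hr
  have hlin : ∀ (a : A) (c : ZMod 3) (x : T), a • c • x = c • a • x := fun a c x =>
    ZMod.map_smul (DistribSMul.toAddMonoidHom T a) c x
  let φ : A → Q3 := fun a => ((b.repr (a • b 0) 0, b.repr (a • b 0) 1),
    (b.repr (a • b 1) 0, b.repr (a • b 1) 1))
  have hrepr : ∀ x : T, x = b.repr x 0 • b 0 + b.repr x 1 • b 1 := fun x => by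
    conv_lhs => rw [← b.sum_repr x]
    exact Fin.sum_univ_two _
  have hmul : ∀ a a' : A, φ (a * a') = qmul (φ a) (φ a') := by
    intro a a'
    have h : ∀ (x : T) (i : Fin 2), b.repr (a • x) i =
        b.repr (a • b 0) i * b.repr x 0 + b.repr (a • b 1) i * b.repr x 1 := fun x i => by
      conv_lhs => rw [hrepr x, smul_add, hlin, hlin, map_add, LinearEquiv.map_smul, LinearEquiv.map_smul]
      simp [mul_comm]
    simp only [φ, qmul, mul_smul]
    rw [h (a' • b 0) 0, h (a' • b 0) 1, h (a' • b 1) 0, h (a' • b 1) 1]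
  have hone : φ 1 = ((1, 0), (0, 1)) := by
    simp [φ, b.repr_self]
  have hinj : Function.Injective φ := by
    intro a a' h
    simp only [φ, Prod.mk.injEq] at h
    refine inv_mul_eq_one.1 (hf (a⁻¹ * a') fun x => ?_)
    rw [mul_smul, inv_smul_eq_iff]
    have h0 : a' • b 0 = a • b 0 := by rw [hrepr (a' • b 0), hrepr (a • b 0), h.1.1, h.1.2]
    have h1 : a' • b 1 = a • b 1 := by rw [hrepr (a' • b 1), hrepr (a • b 1), h.2.1, h.2.2]
    rw [hrepr x, smul_add, smul_add, hlin, hlin, hlin, hlin, h0, h1]
  have hinv : ∀ a, qinv (φ a) := by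
    intro a h0
    have h := hmul a a⁻¹
    rw [mul_inv_cancel, hone] at h
    rcases hX : φ a with ⟨⟨x, z⟩, ⟨y, w⟩⟩
    rcases hY : φ a⁻¹ with ⟨⟨x', z'⟩, ⟨y', w'⟩⟩
    rw [hX, hY] at h
    rw [hX] at h0
    simp only [qmul, Prod.mk.injEq] at h
    have h0' : x * w - z * y = 0 := h0
    refine one_ne_zero (α := ZMod 3) ?_
    calc (1 : ZMod 3) = (x * x' + y * z') * (z * y' + w * w') - (z * x' + w * z') * (x * y' + y * w') := by
          rw [← h.1.1, ← h.1.2, ← h.2.1, ← h.2.2]; ring
      _ = (x * w - z * y) * (x' * w' - z' * y') := by ring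
      _ = 0 := by rw [h0', zero_mul]
  -- the order divides forty eight
  have hdvd : Nat.card U ∣ 48 := by
    let j : A →* Matrix.GeneralLinearGroup (Fin 2) (ZMod 3) := MonoidHom.toHomUnits
      { toFun := fun a => !![(φ a).1.1, (φ a).2.1; (φ a).1.2, (φ a).2.2]
        map_one' := by rw [hone]; exact (Matrix.one_fin_two).symm
        map_mul' := fun a a' => by
          rw [hmul, qmul, Matrix.mul_fin_two] }
    have hj : Function.Injective j := fun a a' h => hinj (by
      have h' : (!![(φ a).1.1, (φ a).2.1; (φ a).1.2, (φ a).2.2] : Matrix (Fin 2) (Fin 2) (ZMod 3)) =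
          !![(φ a').1.1, (φ a').2.1; (φ a').1.2, (φ a').2.2] := congrArg Units.val h
      exact Prod.ext (Prod.ext (congrFun (congrFun h' 0) 0) (congrFun (congrFun h' 1) 0))
        (Prod.ext (congrFun (congrFun h' 0) 1) (congrFun (congrFun h' 1) 1)))
    have h2 := (U.card_subgroup_dvd_card).trans (Subgroup.card_dvd_of_injective j hj)
    rwa [Matrix.card_GL_field, Fin.prod_univ_two, ZMod.card] at h2
  haveI := Fintype.ofFinite A
  haveI : Fintype U := Fintype.ofFinite _
  obtain ⟨S, hS⟩ : ∃ S, S = Finset.univ.image (fun x : U => φ x) := ⟨_, rfl⟩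
  have hScard : S.card = Nat.card U := by
    rw [hS, Finset.card_image_of_injective (f := fun x : U => φ (x : A)) _
      (hinj.comp Subtype.val_injective), Finset.card_univ, ← Nat.card_eq_fintype_card]
  have key : ∀ x : U, Nat.card (Subgroup.centralizer ({x} : Set U)) ≤ min (Nat.card U) (qc (φ x)) := by
    intro x
    refine le_min (Subgroup.card_le_card_group _) ?_
    rw [qc, ← Fintype.card_subtype, ← Nat.card_eq_fintype_card]
    refine Nat.card_le_card_of_injective (fun y => ⟨φ ((y : U) : A), hinv _, ?_⟩)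
      fun y y' h => Subtype.ext (Subtype.ext (hinj (congrArg Subtype.val h)))
    rw [← hmul, ← hmul]
    exact congrArg φ (congrArg Subtype.val (Subgroup.mem_centralizer_singleton_iff.1 y.2).symm)
  have h1 : Nat.card (ConjClasses U) * Nat.card U ≤ 9 * Nat.card U := by
    rw [← sum_centralizer]
    refine (Finset.sum_le_sum fun x _ => key x).trans ?_
    rw [← Finset.sum_image (f := fun X => min (Nat.card U) (qc X)) (g := fun x : U => φ x)
      fun a _ b _ h => Subtype.ext (hinj h), ← hS]
    refine sum_qc_le S (fun X hX => ?_) hScard hdvd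
    rw [hS] at hX
    obtain ⟨x, -, rfl⟩ := Finset.mem_image.1 hX
    exact hinv _
  exact Nat.le_of_mul_le_mul_right h1 Nat.card_pos

/-! ### Other primes -/

theorem prime_arith {s : ℕ} (hs : 5 ≤ s) : s * s + s ≤ 3 ^ (s - 1) := by
  induction s, hs using Nat.le_induction with
  | base => norm_num
  | succ n hn ih =>
    rw [show n + 1 - 1 = n - 1 + 1 by omega, pow_succ]
    nlinarith

/-- Class numbers of subgroups in dimension two. -/
theorem classes_prime (hf : ∀ a : A, (∀ x : T, a • x = x) → a = 1) {s : ℕ} (hs : s.Prime)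
    (hT : Nat.card T = s * s) (hexp : ∀ x : T, s • x = 0) (U : Subgroup A) :
    Nat.card (ConjClasses U) ≤ 3 ^ (s - 1) := by
  classical
  by_cases hs3 : s = 3
  · subst hs3
    exact classes_three hf hT hexp U
  haveI := Fintype.ofFinite A
  haveI : Fintype U := Fintype.ofFinite _
  haveI := Fact.mk hs
  letI : Module (ZMod s) T := AddCommGroup.zmodModule hexp
  have hlin : ∀ (a : A) (c : ZMod s) (x : T), a • c • x = c • a • x := fun a c x =>
    ZMod.map_smul (DistribSMul.toAddMonoidHom T a) c x
  have h2 := hs.two_le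
  haveI : Module.Finite (ZMod s) T := Module.Finite.of_finite
  have hr : Module.finrank (ZMod s) T = 2 := by
    have h : Nat.card T = Nat.card (ZMod s) ^ Module.finrank (ZMod s) T :=
      @Module.natCard_eq_pow_finrank (ZMod s) T _ _ _ ‹_›
    rw [hT, Nat.card_zmod, ← pow_two] at h
    exact (Nat.pow_right_injective h2 h).symm
  haveI : Nontrivial T := Finite.one_lt_card_iff_nontrivial.1 (by rw [hT]; nlinarith)
  obtain ⟨v0, hv0⟩ := exists_ne (0 : T)
  let P : A → Prop := fun x => ∀ v : T, ∃ c : ZMod s, x • v = c • v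
  have hspan : ∀ v w : T, v ≠ 0 → (∀ c : ZMod s, w ≠ c • v) →
      ∀ x : T, ∃ i j : ZMod s, x = i • v + j • w := by
    intro v w hv hw x
    have hinj : Function.Injective (fun c : ZMod s × ZMod s => c.1 • v + c.2 • w) := by
      rintro ⟨i, j⟩ ⟨i', j'⟩ e
      have e' : (j - j') • w = (i' - i) • v := by
        rw [sub_smul, sub_smul, sub_eq_sub_iff_add_eq_add, add_comm (j • w) (i • v), show i • v + j • w = i' • v + j' • w from e]
      have hj : j - j' = 0 := by
        by_contra hne
        exact hw ((j - j')⁻¹ * (i' - i)) (by rw [mul_smul, ← e', ← mul_smul, inv_mul_cancel₀ hne, one_smul])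
      rw [hj, zero_smul] at e'
      have hi : i' - i = 0 := by
        by_contra hne
        exact hv (by rw [← one_smul (ZMod s) v, ← inv_mul_cancel₀ hne, mul_smul, ← e', smul_zero])
      rw [sub_eq_zero.1 hj, sub_eq_zero.1 hi]
    obtain ⟨⟨i, j⟩, h⟩ := (hinj.bijective_of_nat_card_le
      (le_of_eq (by rw [hT, Nat.card_prod, Nat.card_zmod]))).2 x
    exact ⟨i, j, h.symm⟩
  have hscal : (Finset.univ.filter fun x : U => P x).card ≤ s - 1 := by
    obtain ⟨c, hc⟩ : ∃ c : U → ZMod s, ∀ x : U, P x → (x : A) • v0 = c x • v0 := by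
      refine ⟨fun x => if h : P x then (h v0).choose else 0, fun x h => ?_⟩
      simp only [dif_pos h]
      exact (h v0).choose_spec
    refine (Finset.card_le_card_of_injOn c (t := Finset.univ.erase 0) (fun x hx => ?_)
      fun x hx y hy e => ?_).trans (by rw [Finset.card_erase_of_mem (Finset.mem_univ _), Finset.card_univ, ZMod.card])
    · refine Finset.mem_erase.2 ⟨fun h0 => hv0 ?_, Finset.mem_univ _⟩
      have := hc x (Finset.mem_filter.1 hx).2
      rwa [h0, zero_smul, smul_eq_zero_iff_eq] at this
    · have hx' := (Finset.mem_filter.1 hx).2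
      have hy' := (Finset.mem_filter.1 hy).2
      have ex := hc x hx'
      have ey := hc y hy'
      rw [← e] at ey
      refine Subtype.ext (inv_mul_eq_one.1 (hf ((x : A)⁻¹ * y) fun w => ?_))
      rw [mul_smul, inv_smul_eq_iff]
      by_cases hw : ∃ i : ZMod s, w = i • v0
      · obtain ⟨i, rfl⟩ := hw
        rw [hlin, hlin, ex, ey]
      push Not at hw
      have key : ∀ (z : A), P z → z • v0 = c x • v0 → z • w = c x • w := by
        intro z hz hz0
        obtain ⟨k, hk⟩ := hz w
        obtain ⟨d, hd⟩ := hz (v0 + w)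
        rw [smul_add, hz0, hk, smul_add] at hd
        have hd' : (k - d) • w = (d - c x) • v0 := by
          rw [sub_smul, sub_smul, sub_eq_sub_iff_add_eq_add, add_comm, hd, add_comm]
        by_cases hkd : k - d = 0
        · rw [hk, sub_eq_zero.1 hkd]
          rw [hkd, zero_smul, eq_comm] at hd'
          have hdc : d - c x = 0 := by
            by_contra hne
            exact hv0 (by rw [← one_smul (ZMod s) v0, ← inv_mul_cancel₀ hne, mul_smul, hd', smul_zero])
          rw [sub_eq_zero.1 hdc]
        · exact absurd (by rw [mul_smul, ← hd', ← mul_smul, inv_mul_cancel₀ hkd, one_smul] :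
            w = ((k - d)⁻¹ * (d - c x)) • v0) (hw _)
      rw [key y hy' ey, key x hx' ex]
  have hcent : ∀ x : U, ¬P x → Nat.card (Subgroup.centralizer ({x} : Set U)) ≤ s * s - 1 := by
    intro x hx
    simp only [P, not_forall, not_exists] at hx
    obtain ⟨v, hv⟩ := hx
    have hv0' : v ≠ 0 := fun h => hv 0 (by rw [h, smul_zero, smul_zero])
    haveI : Fintype T := Fintype.ofFinite _
    have hc : Nat.card {w : T // w ≠ 0} = s * s - 1 := by
      rw [Nat.card_eq_fintype_card, Fintype.card_subtype_compl, Fintype.card_subtype_eq,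
        ← Nat.card_eq_fintype_card, hT]
    rw [← hc]
    refine Nat.card_le_card_of_injective
      (fun g => ⟨((g : U) : A) • v, fun h => hv0' ((smul_eq_zero_iff_eq _).1 h)⟩) fun g g' h => ?_
    have h0 : ((g : U) : A) • v = ((g' : U) : A) • v := congrArg Subtype.val h
    have hg : ∀ g : Subgroup.centralizer ({x} : Set U), ((g : U) : A) • (x : A) • v =
        (x : A) • ((g : U) : A) • v := fun g => by
      rw [← mul_smul, ← mul_smul]
      exact congrArg (fun z : A => z • v)
        (congrArg Subtype.val (Subgroup.mem_centralizer_singleton_iff.1 g.2))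
    refine Subtype.ext (Subtype.ext (inv_mul_eq_one.1 (hf (((g : U) : A)⁻¹ * ((g' : U) : A)) fun w => ?_)))
    rw [mul_smul, inv_smul_eq_iff]
    obtain ⟨i, j, rfl⟩ := hspan v ((x : A) • v) hv0' hv w
    rw [smul_add, smul_add, hlin, hlin, hlin, hlin, hg, hg, h0]
  obtain ⟨r, hr'⟩ : ∃ r, r = (Finset.univ.filter fun x : U => P x).card := ⟨_, rfl⟩
  have hr1 : 1 ≤ r := hr' ▸ Finset.card_pos.2
    ⟨1, Finset.mem_filter.2 ⟨Finset.mem_univ _, fun v => ⟨1, by rw [one_smul]; exact one_smul A v⟩⟩⟩
  have hmain : Nat.card (ConjClasses U) * Nat.card U + r * (s * s - 1) ≤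
      r * Nat.card U + Nat.card U * (s * s - 1) := by
    have hU : Nat.card U = (Finset.univ : Finset U).card := by
      rw [Finset.card_univ, Nat.card_eq_fintype_card]
    rw [← sum_centralizer, hr', ← Finset.sum_filter_add_sum_filter_not Finset.univ fun x : U => P x]
    have h1 : ∑ x ∈ Finset.univ.filter (fun x : U => P x), Nat.card (Subgroup.centralizer ({x} : Set U)) ≤
        (Finset.univ.filter fun x : U => P x).card * Nat.card U :=
      Finset.sum_le_card_nsmul _ _ _ fun x _ => Subgroup.card_le_card_group _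
    have h2 : ∑ x ∈ Finset.univ.filter (fun x : U => ¬P x), Nat.card (Subgroup.centralizer ({x} : Set U)) ≤
        (Finset.univ.filter fun x : U => ¬P x).card * (s * s - 1) :=
      Finset.sum_le_card_nsmul _ _ _ fun x hx => hcent x (Finset.mem_filter.1 hx).2
    have h3 := Finset.card_filter_add_card_filter_not (s := (Finset.univ : Finset U)) (fun x : U => P x)
    rw [← hU] at h3
    calc _ ≤ (Finset.univ.filter fun x : U => P x).card * Nat.card U +
          (Finset.univ.filter fun x : U => ¬P x).card * (s * s - 1) +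
          (Finset.univ.filter fun x : U => P x).card * (s * s - 1) := by omega
      _ = _ := by rw [← h3]; ring
  have hm : 0 < Nat.card U := Nat.card_pos
  have hrs : r ≤ s - 1 := hr' ▸ hscal
  obtain ⟨q, hq⟩ : ∃ q, q = s * s - 1 := ⟨_, rfl⟩
  rw [← hq] at hmain
  rcases Nat.lt_or_ge s 5 with hlt | hge
  · have hs2 : s = 2 := by
      have h4 : s ≠ 4 := fun h => absurd (h ▸ hs) (by norm_num)
      omega
    rw [show q = 3 by rw [hq, hs2], show r = 1 by omega] at hmain
    refine le_of_le_of_eq ?_ (show 3 = 3 ^ (s - 1) by rw [hs2]; rfl)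
    nlinarith
  · refine le_trans ?_ (prime_arith hge)
    refine Nat.le_of_mul_le_mul_right (c := Nat.card U) ?_ hm
    have h1 : r * Nat.card U ≤ s * Nat.card U := Nat.mul_le_mul_right _ (by omega)
    have h2 : Nat.card U * q ≤ Nat.card U * (s * s) := Nat.mul_le_mul_left _ (by omega)
    nlinarith

end

end Cfsg.Agent.Solv.LayerCls
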