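import Cfsg.Agent.Lib.Solv.LayerClasses.Orders
import Cfsg.Agent.Lib.Solv.LayerClasses.Prime
import Cfsg.Agent.Lib.Lead.PGV.Basics
import Cfsg.Agent.Lib.Solv.Triple.Main

/-!
A soluble completely reducible group on a module of order `s * s` has subgroups with at most
`3 ^ (s - 1)` classes.
-/

set_option autoImplicit false
set_option linter.unusedSectionVars false
set_option linter.style.haveILetI false
set_option maxHeartbeats 800000

namespace Cfsg.Agent.Solv.LayerCls

open Cfsg.Agent.Solv.OddPair (kerV mem_kerV subAct quotAct quot_faithful cr_sub cr_quot CR triv_of_pgroup)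
open Cfsg.Agent.Solv.C49 (index_kerV_le torPart torPart_inv card_torPart)

universe u v

variable {A T : Type v} [Group A] [Finite A] [AddCommGroup T] [Finite T] [DistribMulAction A T]

theorem exp_of_cr (hcr : CR A T) {l k : ℕ} (hl : l.Prime) (hT : Nat.card T = l ^ k) (x : T) :
    l • x = 0 := by
  have h : torPart T l = ⊤ := AddSubgroup.eq_top_of_card_eq _ (by
    rw [card_torPart hcr hl (w := 1) (by rw [hT, mul_one]) (fun h => hl.ne_one (Nat.dvd_one.1 h)), hT])
  exact (h ▸ AddSubgroup.mem_top x : x ∈ torPart T l)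

theorem card_of_faithful (hf : ∀ a : A, (∀ x : T, a • x = x) → a = 1) :
    Nat.card A = (kerV A T).index := by
  rw [(Subgroup.eq_bot_iff_forall _).2 fun a ha => hf a (mem_kerV.1 ha), Subgroup.index_bot]

/-- An abelian normal subgroup is no larger than the module. -/
theorem abelian_normal_le (hcr : CR A T) (hf : ∀ a : A, (∀ x : T, a • x = x) → a = 1) {l k : ℕ}
    [hl : Fact l.Prime] (hT : Nat.card T = l ^ k) (N : Subgroup A) [hN : N.Normal]
    (hab : ∀ x ∈ N, ∀ y ∈ N, x * y = y * x) : Nat.card N ≤ Nat.card T := by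
  classical
  have hnot : ¬l ∣ Nat.card N := by
    intro hd
    obtain ⟨x, hx⟩ := exists_prime_orderOf_dvd_card' l hd
    let P : Subgroup A :=
      { carrier := {a | a ∈ N ∧ a ^ l = 1}
        one_mem' := ⟨N.one_mem, one_pow l⟩
        mul_mem' := fun {a b} ha hb => ⟨N.mul_mem ha.1 hb.1, by
          rw [(show Commute a b from hab a ha.1 b hb.1).mul_pow, ha.2, hb.2, mul_one]⟩
        inv_mem' := fun {a} ha => ⟨N.inv_mem ha.1, by rw [inv_pow, ha.2, inv_one]⟩ }
    have hP : P.Normal := ⟨fun a ha g => ⟨hN.conj_mem a ha.1 g, by rw [conj_pow, ha.2, mul_one, mul_inv_cancel]⟩⟩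
    have hxl : (x : A) ^ l = 1 := congrArg Subtype.val (hx ▸ pow_orderOf_eq_one x : x ^ l = 1)
    have h1 : (x : A) = 1 := hf _ fun t => triv_of_pgroup hcr hT hP
      (fun a => ⟨1, by rw [pow_one]; exact Subtype.ext a.2.2⟩) (show (x : A) ∈ P from ⟨x.2, hxl⟩) t
    rw [show x = 1 from Subtype.ext h1, orderOf_one] at hx
    exact hl.out.ne_one hx.symm
  letI : CommGroup N :=
    { (inferInstance : Group N) with mul_comm := fun a b => Subtype.ext (hab a a.2 b b.2) }
  refine Cfsg.Agent.PGV.card_le_of_abelian_coprime (Nat.card T) (R := N) rfl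
    (exp_of_cr hcr hl.out hT) ((Nat.Prime.coprime_iff_not_dvd hl.out).2 hnot).symm
    ((DistribMulAction.toAddMonoidEnd A T).comp N.subtype) fun a b h => Subtype.ext ?_
  exact (inv_mul_eq_one.1 (hf ((a : A)⁻¹ * b) fun x => by
    rw [mul_smul, inv_smul_eq_iff]
    exact (DFunLike.congr_fun h x).symm))

/-- Three vectors give the crude bound. -/
theorem card_le_cube (hsol : Group.IsSolvable A) (hcr : CR A T)
    (hf : ∀ a : A, (∀ x : T, a • x = x) → a = 1) : Nat.card A ≤ Nat.card T ^ 3 := by
  obtain ⟨v, hv⟩ := Cfsg.Agent.Solv.Triple.base3_solvable hsol hcr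
  rw [card_of_faithful hf]
  refine (index_kerV_le v (fun _ => ⊤) (fun _ _ => AddSubgroup.mem_top _) hv).trans (le_of_eq ?_)
  rw [Nat.card_pi, Finset.prod_const, Finset.card_univ, Fintype.card_fin, AddSubgroup.card_top]

theorem fine_arith {c z i q : ℕ} (hc : c = z * i) (hqz : q ∣ z) (hqi : q ^ 2 ∣ i)
    (hc72 : c ≤ 72) (hc0 : 0 < c) (hq : q = 3 ∨ q = 5) : q = 3 ∧ (c = 27 ∨ c = 54) := by
  have h : q ^ 3 ∣ c := by
    rw [hc, show q ^ 3 = q * q ^ 2 by ring]
    exact Nat.mul_dvd_mul hqz hqi
  rcases hq with rfl | rfl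
  · refine ⟨rfl, ?_⟩
    obtain ⟨k, rfl⟩ := h
    omega
  · obtain ⟨k, rfl⟩ := h
    omega

/-- Four. -/
theorem classes_four (hsol : Group.IsSolvable A) (hcr : CR A T)
    (hf : ∀ a : A, (∀ x : T, a • x = x) → a = 1) (hT : Nat.card T = 2 ^ 4) (U : Subgroup A) :
    Nat.card (ConjClasses U) ≤ 27 := by
  classical
  haveI := Fact.mk Nat.prime_two
  have hA : Nat.card A ≤ 72 := by
    rw [card_of_faithful hf]
    exact small_bound 2 (by norm_num) 4 A T hsol hcr (by decide) hT
  have hUA : Nat.card U * U.index = Nat.card A := U.card_mul_index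
  by_cases hab : ∀ a b : U, a * b = b * a
  · refine card_classes_le_card.trans ?_
    by_contra hc
    haveI : U.Normal := by
      have h1 : U.index = 1 ∨ U.index = 2 := by
        have h2 : U.index ≠ 0 := Subgroup.index_ne_zero_of_finite
        have : U.index < 3 := by
          by_contra h3
          have := Nat.mul_le_mul (Nat.lt_of_not_le hc : 28 ≤ Nat.card U) (Nat.not_lt.1 h3)
          omega
        omega
      rcases h1 with h1 | h1
      · rw [Subgroup.index_eq_one.1 h1]; infer_instance
      · exact Subgroup.normal_of_index_eq_two h1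
    have := abelian_normal_le hcr hf hT U fun a ha b hb => congrArg Subtype.val (hab ⟨a, ha⟩ ⟨b, hb⟩)
    omega
  have h58 := eight_classes_le hab
  by_cases h43 : Nat.card U ≤ 43
  · omega
  have hU : U = ⊤ := by
    refine Subgroup.index_eq_one.1 ?_
    have h2 : U.index ≠ 0 := Subgroup.index_ne_zero_of_finite
    by_contra h3
    have := Nat.mul_le_mul (Nat.lt_of_not_le h43 : 44 ≤ Nat.card U) (show 2 ≤ U.index by omega)
    omega
  subst hU
  refine le_trans (classes_quot_le (Subgroup.topEquiv (G := A)).symm.toMonoidHom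
    (Subgroup.topEquiv (G := A)).symm.surjective) ?_
  have hAU : 44 ≤ Nat.card A := by
    rw [Subgroup.card_top] at h43
    omega
  have habA : ¬∀ a b : A, a * b = b * a := fun h => hab fun a b => Subtype.ext (h a b)
  have hk := four_classes_le (G := A)
  have hD := (commutator A).card_mul_index
  obtain ⟨D, hDdef⟩ : ∃ D, D = commutator A := ⟨_, rfl⟩
  rw [← hDdef] at hk hD
  by_cases hD6 : 6 ≤ Nat.card D
  · have := Nat.mul_le_mul_right D.index hD6
    omega
  haveI hDn : D.Normal := hDdef ▸ inferInstance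
  -- the derived subgroup has order three or five
  obtain ⟨q, hqdef⟩ : ∃ q, q = Nat.card D := ⟨_, rfl⟩
  rw [← hqdef] at hD hD6
  have hq2 : 2 ≤ q := by
    rw [hqdef]
    refine Nat.succ_le_of_lt ((Finite.one_lt_card_iff_nontrivial).2
      ((Subgroup.nontrivial_iff_ne_bot _).2 fun h0 => habA fun a b => ?_))
    have h1 : a * b * a⁻¹ * b⁻¹ ∈ D := by
      rw [hDdef, commutator_def]
      exact Subgroup.commutator_mem_commutator (Subgroup.mem_top a) (Subgroup.mem_top b)
    rw [h0, Subgroup.mem_bot, mul_inv_eq_one, mul_inv_eq_iff_eq_mul] at h1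
    exact h1
  have hDab : ∀ x ∈ D, ∀ y ∈ D, x * y = y * x := by
    have hc : ∀ a b : D, a * b = b * a := by
      rcases (show q = 4 ∨ q = 2 ∨ q = 3 ∨ q = 5 by omega) with h | h | h | h
      · haveI : Fact (Nat.Prime 2) := inferInstance
        exact (IsPGroup.isMulCommutative_of_card_eq_prime_sq (p := 2) (G := D) (by rw [← hqdef, h]; norm_num)).is_comm.comm
      all_goals
        haveI := isCyclic_of_prime_card (α := D) (p := q) (hp := ⟨by rw [h]; norm_num⟩) hqdef.symm
        exact fun a b => IsCyclic.commGroup.mul_comm a b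
    exact fun x hx y hy => congrArg Subtype.val (hc ⟨x, hx⟩ ⟨y, hy⟩)
  have hq35 : q = 3 ∨ q = 5 := by
    by_contra hne
    have h2 : 2 ∣ Nat.card D := hqdef ▸ (by omega : 2 ∣ q)
    obtain ⟨x, hx⟩ := exists_prime_orderOf_dvd_card' 2 h2
    have hDp : IsPGroup 2 D := by
      rcases (show q = 2 ∨ q = 4 by omega) with h | h
      · exact IsPGroup.of_card (n := 1) (by rw [← hqdef, h]; rfl)
      · exact IsPGroup.of_card (n := 2) (by rw [← hqdef, h]; rfl)
    have h1 : (x : A) = 1 := hf _ fun t => triv_of_pgroup hcr hT hDn hDp x.2 t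
    rw [show x = 1 from Subtype.ext h1, orderOf_one] at hx
    omega
  have hqp : q.Prime := by rcases hq35 with h | h <;> rw [h] <;> norm_num
  obtain ⟨C, hCdef⟩ : ∃ C, C = Subgroup.centralizer (D : Set A) := ⟨_, rfl⟩
  haveI hCn : C.Normal := hCdef ▸ inferInstance
  haveI := Fact.mk hqp
  haveI hDcyc := isCyclic_of_prime_card (α := D) hqdef.symm
  obtain ⟨g, hg⟩ := hDcyc.exists_generator
  have hCidx : C.index ≤ q - 1 := by
    haveI : Fintype D := Fintype.ofFinite _
    have hg1 : g ≠ 1 := fun h => by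
      have h1 : Nat.card D = 1 := by
        rw [Nat.card_eq_one_iff_unique]
        refine ⟨⟨fun a b => ?_⟩, inferInstance⟩
        obtain ⟨i, rfl⟩ := Subgroup.mem_zpowers_iff.1 (hg a)
        obtain ⟨j, rfl⟩ := Subgroup.mem_zpowers_iff.1 (hg b)
        rw [h, one_zpow, one_zpow]
      rw [← hqdef] at h1
      omega
    have hc : Nat.card {y : D // y ≠ 1} = q - 1 := by
      rw [Nat.card_eq_fintype_card, Fintype.card_subtype_compl, Fintype.card_subtype_eq,
        ← Nat.card_eq_fintype_card, hqdef]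
    rw [← hc, Subgroup.index_eq_card]
    refine Nat.card_le_card_of_injective
      (fun a => ⟨⟨a.out * g * a.out⁻¹, hDn.conj_mem g g.2 _⟩, fun h => hg1 ?_⟩) fun a b h => ?_
    · have h1 : a.out * (g : A) * a.out⁻¹ = 1 := congrArg Subtype.val h
      exact Subtype.ext (conj_eq_one_iff.1 h1)
    · have h1 : a.out * (g : A) * a.out⁻¹ = b.out * (g : A) * b.out⁻¹ :=
        congrArg (fun y : {y : D // y ≠ 1} => ((y.1 : D) : A)) h
      rw [← QuotientGroup.out_eq' a, ← QuotientGroup.out_eq' b]
      refine QuotientGroup.eq.2 ?_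
      suffices hh : a.out⁻¹ * b.out ∈ Subgroup.centralizer (D : Set A) from hCdef.ge hh
      refine Subgroup.mem_centralizer_iff.2 fun y hy => ?_
      obtain ⟨i, hi⟩ := Subgroup.mem_zpowers_iff.1 (hg ⟨y, hy⟩)
      have hy' : (g : A) ^ i = y := by
        have := congrArg Subtype.val hi
        simpa using this
      have h2 : Commute (g : A) (a.out⁻¹ * b.out) := by
        show (g : A) * (a.out⁻¹ * b.out) = a.out⁻¹ * b.out * g
        calc (g : A) * (a.out⁻¹ * b.out) = a.out⁻¹ * (a.out * g * a.out⁻¹) * b.out := by group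
          _ = a.out⁻¹ * (b.out * g * b.out⁻¹) * b.out := by rw [h1]
          _ = _ := by group
      rw [← hy']
      exact (h2.zpow_left i).eq
  have hC := C.card_mul_index
  by_cases hCab : ∀ x ∈ C, ∀ y ∈ C, x * y = y * x
  · have := abelian_normal_le hcr hf hT C hCab
    rw [show Nat.card T = 16 by rw [hT]; norm_num] at this
    have := Nat.mul_le_mul this hCidx
    rcases hq35 with h | h <;> rw [h] at this hD <;> omega
  -- nonabelian centraliser
  obtain ⟨Z, hZdef⟩ : ∃ Z, Z = (Subgroup.center C).map C.subtype := ⟨_, rfl⟩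
  haveI : Z.Normal := by
    refine ⟨fun z hz a => ?_⟩
    rw [hZdef] at hz ⊢
    obtain ⟨z, hz', rfl⟩ := hz
    refine ⟨⟨a * z * a⁻¹, hCn.conj_mem _ z.2 a⟩, Subgroup.mem_center_iff.2 fun y => Subtype.ext ?_, rfl⟩
    have h1 := congrArg Subtype.val (Subgroup.mem_center_iff.1 hz'
      ⟨a⁻¹ * y * a, by simpa using hCn.conj_mem _ y.2 a⁻¹⟩)
    show (y : A) * (a * z * a⁻¹) = a * z * a⁻¹ * y
    calc (y : A) * (a * z * a⁻¹) = a * ((a⁻¹ * y * a) * z) * a⁻¹ := by group
      _ = a * ((z : A) * (a⁻¹ * y * a)) * a⁻¹ := by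
        rw [show (a⁻¹ * (y : A) * a) * z = (z : A) * (a⁻¹ * y * a) from h1]
      _ = _ := by group
  have hZ16 : Nat.card (Subgroup.center C) ≤ 16 := by
    have h1 := abelian_normal_le hcr hf hT Z (fun a ha b hb => by
      rw [hZdef] at ha hb
      obtain ⟨a, ha, rfl⟩ := ha
      obtain ⟨b, -, rfl⟩ := hb
      exact (congrArg Subtype.val (Subgroup.mem_center_iff.1 ha b)).symm)
    rw [hZdef, Subgroup.card_map_of_injective C.subtype_injective, hT] at h1
    exact h1
  have hDC : D ≤ C := hCdef ▸ fun x hx => Subgroup.mem_centralizer_iff.2 fun y hy => hDab y hy x hx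
  have hDZ : ∀ x : C, (x : A) ∈ D → x ∈ Subgroup.center C := fun x hx =>
    Subgroup.mem_center_iff.2 fun y => Subtype.ext
      (Subgroup.mem_centralizer_iff.1 (hCdef ▸ y.2 : (y : A) ∈ Subgroup.centralizer (D : Set A)) x hx).symm
  have hqz : q ∣ Nat.card (Subgroup.center C) := by
    rw [hqdef]
    exact (Subgroup.card_dvd_of_injective (Subgroup.inclusion hDC |>.codRestrict (Subgroup.center C)
      fun x => hDZ _ x.2) fun a b h => Subgroup.inclusion_injective hDC (congrArg Subtype.val h))
  have hpow : ∀ x : C, x ^ q ∈ Subgroup.center C := by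
    intro x
    refine Subgroup.mem_center_iff.2 fun y => ?_
    have hw : (y * x * y⁻¹ * x⁻¹ : C).1 ∈ D := by
      show (y : A) * x * (y : A)⁻¹ * (x : A)⁻¹ ∈ D
      rw [hDdef, commutator_def]
      exact Subgroup.commutator_mem_commutator (Subgroup.mem_top _) (Subgroup.mem_top _)
    have hwz := hDZ _ hw
    have hwq : (y * x * y⁻¹ * x⁻¹) ^ q = 1 := by
      refine Subtype.ext ?_
      have h1 := congrArg Subtype.val (hqdef ▸ pow_card_eq_one' (x := (⟨_, hw⟩ : D)) :
        (⟨_, hw⟩ : D) ^ q = 1)
      simpa using h1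
    have hconj : y * x * y⁻¹ = (y * x * y⁻¹ * x⁻¹) * x := by group
    have h1 : (y * x * y⁻¹) ^ q = x ^ q := by
      rw [hconj, (show Commute (y * x * y⁻¹ * x⁻¹) x from (Subgroup.mem_center_iff.1 hwz x).symm).mul_pow,
        hwq, one_mul]
    rw [conj_pow, mul_inv_eq_iff_eq_mul] at h1
    exact h1
  have hQp : IsPGroup q (C ⧸ Subgroup.center C) := fun a => ⟨1, by
    obtain ⟨x, rfl⟩ := QuotientGroup.mk_surjective a
    rw [pow_one, ← QuotientGroup.mk_pow, QuotientGroup.eq_one_iff]
    exact hpow x⟩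
  obtain ⟨j, hj⟩ := IsPGroup.iff_card.1 hQp
  have hj2 : 2 ≤ j := by
    by_contra hlt
    haveI : IsCyclic (C ⧸ Subgroup.center C) := by
      rcases (show j = 0 ∨ j = 1 by omega) with h | h <;> rw [h] at hj
      · rw [pow_zero] at hj
        haveI := (Nat.card_eq_one_iff_unique.1 hj).1
        infer_instance
      · exact isCyclic_of_prime_card (p := q) (by rw [hj, pow_one])
    refine hCab fun x hx y hy => congrArg Subtype.val (?_ : (⟨x, hx⟩ : C) * ⟨y, hy⟩ = ⟨y, hy⟩ * ⟨x, hx⟩)
    exact (MonoidHom.isMulCommutative_of_isCyclic_of_ker_le_center (QuotientGroup.mk' (Subgroup.center C))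
      (by rw [QuotientGroup.ker_mk'])).is_comm.comm _ _
  have hCcard : Nat.card C = Nat.card (Subgroup.center C) * q ^ j := by
    rw [← hj, ← Subgroup.index_eq_card, Subgroup.card_mul_index]
  have hC72 : Nat.card C ≤ 72 := (Subgroup.card_le_card_group C).trans hA
  obtain ⟨hq3, hc⟩ := fine_arith hCcard hqz (pow_dvd_pow q hj2) hC72 Nat.card_pos hq35
  rw [hq3] at hD hCidx
  have h0 : C.index ≠ 0 := Subgroup.index_ne_zero_of_finite
  rcases (show C.index = 1 ∨ C.index = 2 by omega) with h | h <;> rw [h] at hC <;>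
    rcases hc with hc | hc <;> rw [hc] at hC <;> omega

/-- The prime powers. -/
theorem classes_prime_power (hsol : Group.IsSolvable A) (hcr : CR A T)
    (hf : ∀ a : A, (∀ x : T, a • x = x) → a = 1) {l e : ℕ} [hl : Fact l.Prime] (he : 1 ≤ e)
    (hT : Nat.card T = l ^ e * l ^ e) (U : Subgroup A) :
    Nat.card (ConjClasses U) ≤ 3 ^ (l ^ e - 1) := by
  classical
  have hl2 := hl.out.two_le
  have hT2 : Nat.card T = l ^ (2 * e) := by rw [hT, two_mul, pow_add]
  have hexp := exp_of_cr hcr hl.out hT2
  rcases Nat.lt_or_ge e 2 with he1 | he2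
  · obtain rfl : e = 1 := by omega
    rw [pow_one] at hT ⊢
    exact classes_prime hf hl.out hT hexp U
  have hUle : Nat.card (ConjClasses U) ≤ Nat.card A :=
    card_classes_le_card.trans (Subgroup.card_le_card_group U)
  obtain ⟨s, hs⟩ : ∃ s, s = l ^ e := ⟨_, rfl⟩
  rw [← hs]
  have hcube : Nat.card A ≤ s ^ 6 := by
    refine (card_le_cube hsol hcr hf).trans (le_of_eq ?_)
    rw [hT, ← hs]; ring
  rcases Nat.lt_or_ge s 17 with hlt | hge
  · have hpow : l ^ 2 ≤ s := hs ▸ Nat.pow_le_pow_right (by omega) he2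
    have hl4 : l < 5 := by nlinarith
    have hl23 : l = 2 ∨ l = 3 := by
      have : l ≠ 4 := fun h => by rw [h] at hl; exact absurd hl.out (by norm_num)
      omega
    have he4 : e ≤ 4 := by
      by_contra h
      have h1 : l ^ 5 ≤ s := hs ▸ Nat.pow_le_pow_right (by omega) (by omega)
      have : 2 ^ 5 ≤ l ^ 5 := Nat.pow_le_pow_left hl2 5
      omega
    rcases hl23 with rfl | rfl
    · rcases (show e = 2 ∨ e = 3 ∨ e = 4 by omega) with rfl | rfl | rfl
      · subst hs
        exact classes_four hsol hcr hf (by rw [hT2]) U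
      · subst hs
        refine hUle.trans ?_
        rw [card_of_faithful hf]
        exact (small_bound 2 (by norm_num) 6 A T hsol hcr (by decide) (by rw [hT2])).trans (by decide)
      · subst hs
        rw [show (2 : ℕ) ^ 4 - 1 = 15 by norm_num, show (3 : ℕ) ^ 15 = 14348907 by norm_num]
        rw [show ((2 : ℕ) ^ 4) ^ 6 = 16777216 by norm_num] at hcube
        by_cases hab : ∀ a b : U, a * b = b * a
        · refine card_classes_le_card.trans ?_
          by_contra hc
          have hU : U = ⊤ := by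
            refine Subgroup.index_eq_one.1 ?_
            have h2 : U.index ≠ 0 := Subgroup.index_ne_zero_of_finite
            have := U.card_mul_index
            by_contra h3
            have := Nat.mul_le_mul (le_refl (Nat.card U)) (show 2 ≤ U.index by omega)
            omega
          haveI : U.Normal := hU ▸ inferInstance
          have := abelian_normal_le hcr hf hT2 U fun a ha b hb => congrArg Subtype.val (hab ⟨a, ha⟩ ⟨b, hb⟩)
          rw [hT2, show (2 : ℕ) ^ (2 * 4) = 256 by norm_num] at this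
          omega
        · have := eight_classes_le hab
          have := Subgroup.card_le_card_group U
          omega
    · rcases (show e = 2 by
        by_contra h
        have h1 : 3 ^ 3 ≤ s := hs ▸ Nat.pow_le_pow_right (by omega) (by omega)
        omega) with rfl
      subst hs
      refine hUle.trans ?_
      rw [card_of_faithful hf]
      exact (small_bound 3 (by norm_num) 4 A T hsol hcr (by decide) (by rw [hT2])).trans (by decide)
  · refine hUle.trans (hcube.trans ?_)
    clear * - hge
    induction s, hge using Nat.le_induction with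
    | base => norm_num
    | succ n hn ih =>
      rw [show n + 1 - 1 = n - 1 + 1 by omega, pow_succ 3]
      have h1 : (n + 1) ^ 6 ≤ n ^ 6 * 3 := by
        have h2 : 17 * (n + 1) ≤ 18 * n := by omega
        have h3 := Nat.pow_le_pow_left h2 6
        rw [mul_pow, mul_pow] at h3
        norm_num at h3
        generalize (n + 1) ^ 6 = x, n ^ 6 = y at h3 ⊢
        omega
      exact h1.trans (Nat.mul_le_mul_right 3 ih)

theorem three_pow_mul {a b : ℕ} (ha : 2 ≤ a) (hb : 1 ≤ b) :
    3 ^ (a - 1) * 3 ^ (b - 1) ≤ 3 ^ (a * b - 1) := by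
  rw [← pow_add]
  refine Nat.pow_le_pow_right (by norm_num) ?_
  obtain ⟨a', rfl⟩ : ∃ a', a = a' + 1 := ⟨a - 1, by omega⟩
  obtain ⟨b', rfl⟩ : ∃ b', b = b' + 1 := ⟨b - 1, by omega⟩
  have : (a' + 1) * (b' + 1) = a' * b' + a' + b' + 1 := by ring
  omega

/-- The bound on the layer. -/
theorem layer_classes : ∀ (s : ℕ) (A T : Type v) [Group A] [Finite A] [AddCommGroup T] [Finite T]
    [DistribMulAction A T], Group.IsSolvable A → CR A T → Nat.card T = s * s →
      (∀ a : A, (∀ x : T, a • x = x) → a = 1) → ∀ U : Subgroup A,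
      Nat.card (ConjClasses U) ≤ 3 ^ (s - 1) := by
  intro s
  induction s using Nat.strong_induction_on with
  | _ s ih =>
  intro A T _ _ _ _ _ hsol hcr hT hf U
  classical
  have hs0 : 0 < s := by
    rcases Nat.eq_zero_or_pos s with rfl | h
    · exact absurd hT Nat.card_pos.ne'
    · exact h
  by_cases hs1 : s = 1
  · subst hs1
    haveI : Subsingleton T := (Nat.card_eq_one_iff_unique.1 (by rw [hT])).1
    haveI : Subsingleton A := ⟨fun a b => by
      rw [hf a fun x => Subsingleton.elim _ _, hf b fun x => Subsingleton.elim _ _]⟩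
    refine card_classes_le_card.trans ((Subgroup.card_le_card_group U).trans ?_)
    rw [Finite.card_le_one_iff_subsingleton.2 inferInstance |>.antisymm Nat.card_pos]
    exact le_rfl
  obtain ⟨l, hl, hls⟩ := Nat.exists_prime_and_dvd hs1
  haveI := Fact.mk hl
  obtain ⟨e, w, hw, hsw⟩ := Nat.exists_eq_pow_mul_and_not_dvd hs0.ne' l hl.ne_one
  have he : 1 ≤ e := by
    by_contra h
    rw [show e = 0 by omega, pow_zero, one_mul] at hsw
    exact hw (hsw ▸ hls)
  by_cases hw1 : w = 1
  · subst hw1
    rw [mul_one] at hsw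
    subst hsw
    exact classes_prime_power hsol hcr hf he hT U
  have hw0 : 0 < w := Nat.pos_of_ne_zero fun h => hw (h ▸ dvd_zero l)
  have hle : 2 ≤ l ^ e := le_trans hl.two_le (Nat.le_self_pow (by omega) l)
  have hP : Nat.card (torPart T l) = l ^ e * l ^ e := by
    rw [card_torPart hcr hl (e := e + e) (w := w * w) (by rw [hT, hsw, pow_add]; ring)
      (fun h => hw ((hl.dvd_mul.1 h).elim id id)), pow_add]
  obtain ⟨W, hW, hd, hsup⟩ := hcr (torPart T l) fun a x hx => torPart_inv l a x hx
  have hWc : Nat.card W = w * w := by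
    have h1 := card_of_compl hd hsup
    rw [hP, hT, hsw] at h1
    refine Nat.eq_of_mul_eq_mul_left (Nat.mul_pos (by omega : 0 < l ^ e) (by omega : 0 < l ^ e)) ?_
    rw [h1]; ring
  letI aP : DistribMulAction A (torPart T l) := subAct _ fun a x hx => torPart_inv l a x hx
  letI aW : DistribMulAction A W := subAct W hW
  have crP : CR A (torPart T l) := cr_sub hcr _ _
  have crW : CR A W := cr_sub hcr _ _
  -- the image on the first part
  have hsolQ : ∀ (R : Subgroup A) [R.Normal], Group.IsSolvable (A ⧸ R) := fun R _ => by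
    haveI := hsol
    exact Group.isSolvable_of_surjective (f := QuotientGroup.mk' R) (QuotientGroup.mk'_surjective R)
  have hlt1 : l ^ e < s := by
    rw [hsw]; exact lt_mul_of_one_lt_right (by omega) (by omega)
  have hlt2 : w < s := by
    rw [hsw]; exact lt_mul_of_one_lt_left hw0 (by omega)
  let π₁ := (QuotientGroup.mk' (kerV A (torPart T l))).comp U.subtype
  let π₂ := ((QuotientGroup.mk' (kerV A W)).comp U.subtype).comp π₁.ker.subtype
  have h₂ : Function.Injective π₂ := by
    refine (injective_iff_map_eq_one _).2 fun x hx => Subtype.ext (Subtype.ext (hf _ fun t => ?_))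
    obtain ⟨a, ha, b, hb, rfl⟩ := AddSubgroup.mem_sup.1 (hsup ▸ AddSubgroup.mem_top t)
    rw [smul_add, show ((x : U) : A) • a = a from congrArg Subtype.val
        (mem_kerV.1 ((QuotientGroup.eq_one_iff _).1 x.2) ⟨a, ha⟩),
      show ((x : U) : A) • b = b from congrArg Subtype.val
        (mem_kerV.1 ((QuotientGroup.eq_one_iff _).1 hx) ⟨b, hb⟩)]
  have h₁ := classes_le_ker_range π₁
  have hk1 : Nat.card (ConjClasses π₁.range) ≤ 3 ^ (l ^ e - 1) := by
    letI := quotAct (A := A) (V := torPart T l)
    exact ih _ hlt1 (A ⧸ kerV A (torPart T l)) (torPart T l) (hsolQ _) (cr_quot crP) hP quot_faithful _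
  have hk2 : Nat.card (ConjClasses π₁.ker) ≤ 3 ^ (w - 1) := by
    refine le_trans (le_of_eq ?_) ?_ (b := Nat.card (ConjClasses π₂.range))
    · exact (Nat.card_congr (Equiv.ofBijective (ConjClasses.map π₂.rangeRestrict)
        ⟨fun a b h => by
          obtain ⟨x, rfl⟩ := ConjClasses.exists_rep a
          obtain ⟨y, rfl⟩ := ConjClasses.exists_rep b
          obtain ⟨c, hc⟩ := isConj_iff.1 (ConjClasses.mk_eq_mk_iff_isConj.1 h)
          obtain ⟨c', rfl⟩ := π₂.rangeRestrict_surjective c
          rw [← map_inv, ← map_mul, ← map_mul] at hc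
          exact ConjClasses.mk_eq_mk_iff_isConj.2 (isConj_iff.2 ⟨c',
            h₂ (congrArg Subtype.val hc)⟩), ConjClasses.map_surjective π₂.rangeRestrict_surjective⟩))
    · letI := quotAct (A := A) (V := W)
      exact ih _ hlt2 (A ⧸ kerV A W) W (hsolQ _) (cr_quot crW) hWc quot_faithful _
  refine h₁.trans ((Nat.mul_le_mul hk2 hk1).trans ?_)
  rw [mul_comm, hsw]
  exact three_pow_mul hle (by omega)

end Cfsg.Agent.Solv.LayerCls
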