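import Cfsg.Agent.Lib.Solv.LayerClasses.Main
import Cfsg.Agent.Lib.Char.KGVAbelian
import Cfsg.Agent.Lib.Solv.CopPair.Main

/-!
Classes of the semidirect product of a module by a soluble group of coprime order.
-/

set_option autoImplicit false
set_option linter.unusedSectionVars false
set_option linter.style.haveILetI false
set_option maxHeartbeats 800000

namespace Cfsg.Agent.Solv.LayerCls

open scoped Pointwise
open Cfsg.Agent.Solv.OddPair (kerV mem_kerV subAct quotAct quot_faithful CR imgRing Extra exists_extra)
open Cfsg.Agent.Solv.C49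

universe v

/-- The action on the multiplicative copy. -/
def actHom (A V : Type v) [Group A] [AddCommGroup V] [DistribMulAction A V] :
    A →* MulAut (Multiplicative V) where
  toFun a := AddEquiv.toMultiplicative (DistribMulAction.toAddEquiv V a)
  map_one' := by ext x; exact congrArg Multiplicative.ofAdd (one_smul A (Multiplicative.toAdd x))
  map_mul' a b := by ext x; exact congrArg Multiplicative.ofAdd (mul_smul a b (Multiplicative.toAdd x))

theorem actHom_apply {A V : Type v} [Group A] [AddCommGroup V] [DistribMulAction A V] (a : A)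
    (x : Multiplicative V) : actHom A V a x = Multiplicative.ofAdd (a • Multiplicative.toAdd x) := rfl

/-- The semidirect product. -/
abbrev Hol (A V : Type v) [Group A] [AddCommGroup V] [DistribMulAction A V] : Type v :=
  Multiplicative V ⋊[actHom A V] A

section basics

variable {A V : Type v} [Group A] [Finite A] [AddCommGroup V] [Finite V] [DistribMulAction A V]

instance : Finite (Hol A V) := Finite.of_equiv _ SemidirectProduct.equivProd.symm

theorem card_hol : Nat.card (Hol A V) = Nat.card V * Nat.card A := by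
  rw [Nat.card_congr SemidirectProduct.equivProd, Nat.card_prod]
  rfl

/-- Passing to a subgroup of the acting group. -/
theorem hol_le_index (B : Subgroup A) :
    Nat.card (ConjClasses (Hol A V)) ≤ B.index * Nat.card (ConjClasses (Hol B V)) := by
  let j : Hol B V →* Hol A V :=
    SemidirectProduct.map (MonoidHom.id _) B.subtype fun b => MonoidHom.ext fun x => rfl
  have hj : Function.Injective j := fun x y h =>
    SemidirectProduct.ext (congrArg SemidirectProduct.left h :)
      (Subtype.ext (congrArg SemidirectProduct.right h :))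
  have hidx : j.range.index = B.index := by
    have h1 := j.range.card_mul_index
    rw [← Nat.card_congr (MonoidHom.ofInjective hj).toEquiv, card_hol, card_hol, ← B.card_mul_index,
      ← mul_assoc] at h1
    exact Nat.eq_of_mul_eq_mul_left (Nat.mul_pos Nat.card_pos Nat.card_pos) h1
  refine (classes_le_index_mul j.range).trans (hidx ▸ Nat.mul_le_mul_left _ ?_)
  exact classes_quot_le j.rangeRestrict j.rangeRestrict_surjective

/-- Classes through a map of the acting group. -/
theorem hol_le_quot {Q : Type v} [Group Q] (f : A →* Q) :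
    Nat.card (ConjClasses (Hol A V)) ≤
      Nat.card (ConjClasses (Hol f.ker V)) * Nat.card (ConjClasses f.range) := by
  let g : Hol A V →* f.range := f.rangeRestrict.comp SemidirectProduct.rightHom
  let j : Hol f.ker V →* Hol A V :=
    SemidirectProduct.map (MonoidHom.id _) f.ker.subtype fun b => MonoidHom.ext fun x => rfl
  haveI := Finite.of_surjective _ f.rangeRestrict_surjective
  refine (classes_le_ker_range g).trans (Nat.mul_le_mul ?_ ?_)
  · let j' : Hol f.ker V →* g.ker := j.codRestrict g.ker fun x =>
      Subtype.ext (MonoidHom.mem_ker.1 x.right.2 :)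
    refine classes_quot_le j' fun x => ⟨⟨(x : Hol A V).left, ⟨(x : Hol A V).right, ?_⟩⟩, rfl⟩
    exact MonoidHom.mem_ker.2 (congrArg Subtype.val (MonoidHom.mem_ker.1 x.2) :)
  · have hs : Function.Surjective g :=
      f.rangeRestrict_surjective.comp SemidirectProduct.rightHom_surjective
    exact classes_quot_le ((MonoidHom.id f.range).codRestrict g.range fun y => MonoidHom.mem_range.2 (hs y))
      fun y => ⟨y, Subtype.ext rfl⟩

variable {p : ℕ} [hp : Fact p.Prime]

/-- An abelian stabiliser gives at most `|V|` classes. -/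
theorem hol_le_card (hV : ∀ x : V, p • x = 0) (hpA : ¬p ∣ Nat.card A)
    (hf : ∀ a : A, (∀ x : V, a • x = x) → a = 1) (v : V)
    (hab : ∀ a b : A, a • v = v → b • v = v → a * b = b * a) :
    Nat.card (ConjClasses (Hol A V)) ≤ Nat.card V := by
  let N : Subgroup (Hol A V) := (SemidirectProduct.inl : Multiplicative V →* Hol A V).range
  let G : Subgroup (Hol A V) := (SemidirectProduct.inr : A →* Hol A V).range
  haveI hN : N.Normal := by
    show (SemidirectProduct.inl : Multiplicative V →* Hol A V).range.Normal
    rw [SemidirectProduct.range_inl_eq_ker_rightHom]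
    infer_instance
  have hNcard : Nat.card N = Nat.card V :=
    (Nat.card_congr (MonoidHom.ofInjective SemidirectProduct.inl_injective).toEquiv).symm.trans rfl
  have hidx : N.index = Nat.card A := by
    have h1 := N.card_mul_index
    rw [hNcard, card_hol] at h1
    exact Nat.eq_of_mul_eq_mul_left Nat.card_pos h1
  have hexp : ∀ x ∈ N, x ^ p = 1 := by
    rintro _ ⟨x, rfl⟩
    rw [← map_pow, show x ^ p = 1 from congrArg Multiplicative.ofAdd (hV (Multiplicative.toAdd x)), map_one]
  have hconj : ∀ (g : Hol A V) (x : Multiplicative V),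
      g * SemidirectProduct.inl x * g⁻¹ = SemidirectProduct.inl (actHom A V g.right x) := by
    intro g x
    refine SemidirectProduct.ext ?_ ?_
    · simp [mul_comm, mul_left_comm]
    · simp
  have hfix : ∀ (g : Hol A V) (x : Multiplicative V),
      g * SemidirectProduct.inl x = SemidirectProduct.inl x * g ↔
        g.right • Multiplicative.toAdd x = Multiplicative.toAdd x := by
    intro g x
    rw [← mul_inv_eq_iff_eq_mul, hconj, SemidirectProduct.inl_inj]
    exact ⟨fun h => congrArg Multiplicative.toAdd h, fun h => congrArg Multiplicative.ofAdd h⟩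
  have hself : Subgroup.centralizer (N : Set (Hol A V)) = N := by
    refine le_antisymm (fun g hg => ?_) fun g hg => ?_
    · refine ⟨g.left, SemidirectProduct.ext rfl (hf _ fun x => ?_).symm⟩
      exact (hfix g (Multiplicative.ofAdd x)).1 (Subgroup.mem_centralizer_iff.1 hg _ ⟨_, rfl⟩).symm
    · obtain ⟨y, rfl⟩ := hg
      refine Subgroup.mem_centralizer_iff.2 ?_
      rintro _ ⟨x, rfl⟩
      rw [← map_mul, ← map_mul, mul_comm]
  have hcomp : Subgroup.IsComplement' N G := by
    refine Subgroup.isComplement'_of_disjoint_and_mul_eq_univ ?_ ?_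
    · rw [Subgroup.disjoint_def]
      rintro _ ⟨x, rfl⟩ ⟨a, ha⟩
      have h1 := congrArg SemidirectProduct.left ha
      simp at h1
      rw [← h1, map_one]
    · exact Set.eq_univ_of_forall fun g =>
        ⟨_, ⟨g.left, rfl⟩, _, ⟨g.right, rfl⟩, SemidirectProduct.inl_left_mul_inr_right g⟩
  rw [← hNcard]
  refine Cfsg.Agent.Char.KGV.class_number_le p N hexp (hidx ▸ hpA) hself G hcomp
    (SemidirectProduct.inl (Multiplicative.ofAdd v)) ⟨_, rfl⟩ ?_
  rintro _ ⟨⟨a, rfl⟩, ha⟩ _ ⟨⟨b, rfl⟩, hb⟩
  have ha' := (hfix _ _).1 (Subgroup.mem_centralizer_singleton_iff.1 ha)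
  have hb' := (hfix _ _).1 (Subgroup.mem_centralizer_singleton_iff.1 hb)
  rw [SemidirectProduct.right_inr] at ha' hb'
  rw [← map_mul, ← map_mul, hab a b ha' hb']

end basics

/-- The bound below a size. -/
def KVBound (p n : ℕ) : Prop :=
  ∀ m < n, ∀ (A V : Type v) [Group A] [Finite A] [AddCommGroup V] [Finite V] [DistribMulAction A V],
    Group.IsSolvable A → ¬p ∣ Nat.card A → (∀ a : A, (∀ x : V, a • x = x) → a = 1) →
      (∀ x : V, p • x = 0) → Nat.card V = p ^ m → 1 ≤ m →
        Nat.card (ConjClasses (Hol A V)) ≤ 3 ^ (m - 1) * p ^ m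

section family

variable {A V : Type v} [Group A] [Finite A] [AddCommGroup V] [Finite V] [DistribMulAction A V]
  {p : ℕ} [hp : Fact p.Prime] {ι : Type*} [Fintype ι]

/-- Several invariant summands. -/
theorem hol_le_family {n : ℕ} (hB : KVBound.{v} p n) (hsol : Group.IsSolvable A) (hpA : ¬p ∣ Nat.card A)
    (hf : ∀ a : A, (∀ x : V, a • x = x) → a = 1) (hV : ∀ x : V, p • x = 0) (hn : Nat.card V = p ^ n)
    (W : ι → AddSubgroup V) (e : ι → V →+ V) (hmem : ∀ i x, e i x ∈ W i)
    (hone : ∀ i, ∀ x ∈ W i, e i x = x) (hzero : ∀ i j, j ≠ i → ∀ x ∈ W j, e i x = 0)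
    (hsum : ∀ x, ∑ i, e i x = x) (hinv : ∀ i, ∀ a : A, ∀ x ∈ W i, a • x ∈ W i)
    (hne : ∀ i, W i ≠ ⊥) (h2 : 2 ≤ Fintype.card ι) :
    Nat.card (ConjClasses (Hol A V)) ≤ 3 ^ (n - Fintype.card ι) * p ^ n := by
  classical
  have heq : ∀ i (a : A) x, e i (a • x) = a • e i x := by
    intro i a x
    conv_lhs => rw [← hsum x, Finset.smul_sum, map_sum]
    rw [Finset.sum_eq_single i]
    · exact hone i _ (hinv i a _ (hmem i x))
    · exact fun j _ hj => hzero i j hj _ (hinv j a _ (hmem j x))
    · exact fun h => absurd (Finset.mem_univ _) h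
  have hcardW : ∀ i, ∃ d, 1 ≤ d ∧ Nat.card (W i) = p ^ d := by
    intro i
    obtain ⟨d, -, hd⟩ := (Nat.dvd_prime_pow hp.out).1 (hn ▸ AddSubgroup.card_addSubgroup_dvd_card (W i))
    exact ⟨d, Nat.pos_of_ne_zero fun h => hne i (AddSubgroup.eq_bot_of_card_le _ (by rw [hd, h]; rfl)), hd⟩
  choose d hd1 hd using hcardW
  have hsumd : ∑ i, d i = n := by
    have e0 : V ≃ ((i : ι) → W i) :=
      { toFun := fun x i => ⟨e i x, hmem i x⟩
        invFun := fun f => ∑ i, (f i : V)
        left_inv := hsum
        right_inv := fun f => funext fun i => Subtype.ext (by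
          show e i (∑ j, (f j : V)) = f i
          rw [map_sum, Finset.sum_eq_single i]
          · exact hone i _ (f i).2
          · exact fun j _ hj => hzero i j hj _ (f j).2
          · exact fun h => absurd (Finset.mem_univ _) h) }
    refine Nat.pow_right_injective hp.out.two_le ?_
    show p ^ (∑ i, d i) = p ^ n
    rw [← Finset.prod_pow_eq_pow_sum, ← hn, Nat.card_congr e0, Nat.card_pi]
    exact Finset.prod_congr rfl fun i _ => (hd i).symm
  letI act : ∀ i, DistribMulAction A (W i) := fun i => subAct (W i) (hinv i)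
  -- the projections
  let Qt : ι → Type v := fun i => A ⧸ kerV A (W i)
  letI aQ : ∀ i, DistribMulAction (A ⧸ kerV A (W i)) (W i) := fun i => quotAct
  let π : ∀ i, Hol A V →* Hol (A ⧸ kerV A (W i)) (W i) := fun i =>
    SemidirectProduct.map (AddMonoidHom.toMultiplicative ((e i).codRestrict (W i) (hmem i)))
      (QuotientGroup.mk' _) fun a => MonoidHom.ext fun x =>
        Multiplicative.toAdd.injective (Subtype.ext (heq i a (Multiplicative.toAdd x)))
  have step : ∀ S : Finset ι, Nat.card (ConjClasses (Hol A V)) ≤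
      Nat.card (ConjClasses (⨅ i ∈ S, (π i).ker : Subgroup (Hol A V))) * ∏ i ∈ S, 3 ^ (d i - 1) * p ^ d i := by
    intro S
    induction S using Finset.induction_on with
    | empty =>
      rw [Finset.prod_empty, mul_one]
      refine classes_quot_le (Subgroup.subtype _) fun x => ⟨⟨x, ?_⟩, rfl⟩
      simp
    | insert k S hk ih =>
      rw [Finset.prod_insert hk, ← mul_assoc]
      refine ih.trans (Nat.mul_le_mul_right _ ?_)
      obtain ⟨K, hK⟩ : ∃ K : Subgroup (Hol A V), K = ⨅ i ∈ S, (π i).ker := ⟨_, rfl⟩
      rw [← hK]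
      let g := (π k).comp K.subtype
      refine (classes_le_ker_range g).trans (Nat.mul_le_mul ?_ ?_)
      · have hle : ∀ x : g.ker, ((x : K) : Hol A V) ∈ ⨅ i ∈ insert k S, (π i).ker := fun x => by
          rw [Finset.iInf_insert, Subgroup.mem_inf, ← hK]
          exact ⟨x.2, (x : K).2⟩
        have hle' : ∀ y : (⨅ i ∈ insert k S, (π i).ker : Subgroup (Hol A V)),
            (y : Hol A V) ∈ (π k).ker ∧ (y : Hol A V) ∈ K := fun y => by
          have h : ∀ z ∈ (⨅ i ∈ insert k S, (π i).ker : Subgroup (Hol A V)), z ∈ (π k).ker ∧ z ∈ K := by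
            intro z hz
            rw [Finset.iInf_insert, Subgroup.mem_inf, ← hK] at hz
            exact hz
          exact h y y.2
        exact classes_quot_le
          ({ toFun := fun y => ⟨⟨y, (hle' y).2⟩, (hle' y).1⟩
             map_one' := rfl
             map_mul' := fun _ _ => rfl } :
            (⨅ i ∈ insert k S, (π i).ker : Subgroup (Hol A V)) →* g.ker)
          fun x => ⟨⟨_, hle x⟩, rfl⟩
      · -- the image contains the whole summand
        have hWin : ∀ w : Multiplicative (W k), SemidirectProduct.inl w ∈ g.range := by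
          intro w
          refine ⟨⟨SemidirectProduct.inl (Multiplicative.ofAdd ((Multiplicative.toAdd w : W k) : V)), ?_⟩, ?_⟩
          · rw [hK, Subgroup.mem_iInf]
            intro i
            rw [Subgroup.mem_iInf]
            intro hi
            refine MonoidHom.mem_ker.2 (SemidirectProduct.ext ?_ ?_)
            · exact Multiplicative.toAdd.injective (Subtype.ext (hzero i k (fun h => hk (h ▸ hi)) _
                (Multiplicative.toAdd w).2))
            · rfl
          · refine SemidirectProduct.ext ?_ ?_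
            · exact Multiplicative.toAdd.injective (Subtype.ext (hone k _ (Multiplicative.toAdd w).2))
            · rfl
        let H : Subgroup (A ⧸ kerV A (W k)) := g.range.map SemidirectProduct.rightHom
        let j : Hol H (W k) →* Hol (A ⧸ kerV A (W k)) (W k) :=
          SemidirectProduct.map (MonoidHom.id _) H.subtype fun b => MonoidHom.ext fun x => rfl
        have hjmem : ∀ x, j x ∈ g.range := by
          intro x
          obtain ⟨y, hy, hyr⟩ := x.right.2
          have h1 : j x = SemidirectProduct.inl (x.left * y.left⁻¹) * y := by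
            refine SemidirectProduct.ext ?_ ?_
            · simp [j]
            · simpa [j] using hyr.symm
          rw [h1]
          exact g.range.mul_mem (hWin _) hy
        refine (classes_quot_le (j.codRestrict g.range hjmem) fun x => ?_).trans ?_
        · exact ⟨⟨(x : Hol (A ⧸ kerV A (W k)) (W k)).left, ⟨_, ⟨x, x.2, rfl⟩⟩⟩, Subtype.ext rfl⟩
        have hdn : d k < n := by
          obtain ⟨i, hi⟩ : ∃ i, i ≠ k := Fintype.exists_ne_of_one_lt_card (by omega) k
          calc d k < d k + d i := Nat.lt_add_of_pos_right (hd1 i)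
            _ = ∑ j ∈ ({k, i} : Finset ι), d j := by rw [Finset.sum_pair hi.symm]
            _ ≤ n := hsumd ▸ Finset.sum_le_sum_of_subset (Finset.subset_univ _)
        haveI := hsol
        have hsQ : Group.IsSolvable (A ⧸ kerV A (W k)) :=
          Group.isSolvable_of_surjective (f := QuotientGroup.mk' _) (QuotientGroup.mk'_surjective _)
        haveI := hsQ
        refine hB (d k) hdn H (W k) (Group.isSolvable_of_isSolvable_injective (Subgroup.subtype_injective H))
          (fun h => hpA (h.trans (H.card_subgroup_dvd_card.trans (Subgroup.card_quotient_dvd_card _))))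
          (fun a h => Subtype.ext (quot_faithful _ h)) (fun x => Subtype.ext (hV x)) (hd k) (hd1 k)
  refine (step Finset.univ).trans ?_
  have hbot : Nat.card (ConjClasses (⨅ i ∈ (Finset.univ : Finset ι), (π i).ker : Subgroup (Hol A V))) ≤ 1 := by
    refine card_classes_le_card.trans (Finite.card_le_one_iff_subsingleton.2 ⟨fun x y => ?_⟩)
    have key : ∀ z : (⨅ i ∈ (Finset.univ : Finset ι), (π i).ker : Subgroup (Hol A V)), (z : Hol A V) = 1 := by
      intro z
      have hz : ∀ i, π i z = 1 := fun i =>
        MonoidHom.mem_ker.1 ((Subgroup.mem_iInf.1 (Subgroup.mem_iInf.1 z.2 i)) (Finset.mem_univ i))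
      refine SemidirectProduct.ext ?_ (hf _ fun x => ?_)
      · refine Multiplicative.toAdd.injective ?_
        show Multiplicative.toAdd (z : Hol A V).left = (0 : V)
        rw [← hsum (Multiplicative.toAdd (z : Hol A V).left)]
        refine Finset.sum_eq_zero fun i _ => ?_
        exact congrArg (fun w : Multiplicative (W i) => ((Multiplicative.toAdd w : W i) : V))
          (congrArg SemidirectProduct.left (hz i))
      · rw [← hsum x, Finset.smul_sum]
        refine Finset.sum_congr rfl fun i _ => ?_
        have h1 : ((z : Hol A V).right : A ⧸ kerV A (W i)) = 1 := congrArg SemidirectProduct.right (hz i)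
        exact congrArg Subtype.val (mem_kerV.1 ((QuotientGroup.eq_one_iff _).1 h1) ⟨_, hmem i x⟩)
    exact Subtype.ext ((key x).trans (key y).symm)
  refine (Nat.mul_le_mul_right _ hbot).trans (le_of_eq ?_)
  rw [one_mul, Finset.prod_mul_distrib, Finset.prod_pow_eq_pow_sum, Finset.prod_pow_eq_pow_sum, hsumd]
  congr 2
  have h3 : ∑ i, (d i - 1) + Fintype.card ι = n := by
    rw [← hsumd, ← Finset.card_univ, Finset.card_eq_sum_ones, ← Finset.sum_add_distrib]
    exact Finset.sum_congr rfl fun i _ => by have := hd1 i; omega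
  omega

end family

section main

variable {p : ℕ} [hp : Fact p.Prime]

/-- Classes of a soluble coprime semidirect product. -/
theorem hol_bound : ∀ n, KVBound.{v} p n := by
  intro n
  induction n with
  | zero => exact fun m hm => absurd hm (by omega)
  | succ n ih =>
    intro m hm A V _ _ _ _ _ hsol hpA hf hV hcard hm1
    rcases Nat.lt_or_ge m n with h | h
    · exact ih m h A V hsol hpA hf hV hcard hm1
    obtain rfl : m = n := by omega
    classical
    haveI : Nontrivial V := Finite.one_lt_card_iff_nontrivial.1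
      (hcard ▸ Nat.one_lt_pow (by omega) hp.out.one_lt)
    have hcop : Nat.Coprime (Nat.card A) (Nat.card V) := by
      rw [hcard]
      exact (Nat.Coprime.pow_left m ((Nat.Prime.coprime_iff_not_dvd hp.out).2 hpA)).symm
    by_cases hirr : Irred A V
    swap
    · simp only [Irred] at hirr
      push Not at hirr
      obtain ⟨U, hU, hU0, hU1⟩ := hirr
      obtain ⟨R, hR, hd, hs⟩ := Cfsg.Agent.Solv.CopPair.cr_of_coprime hp.out hV hcop U hU
      let f : U × R →+ V := U.subtype.coprod R.subtype
      have hinj : Function.Injective f := by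
        refine (injective_iff_map_eq_zero f).2 fun q hq => ?_
        have h0 : (q.1 : V) + q.2 = 0 := hq
        have h1 : (q.1 : V) ∈ U ⊓ R := AddSubgroup.mem_inf.2 ⟨q.1.2, by
          rw [eq_neg_of_add_eq_zero_left h0]
          exact R.neg_mem q.2.2⟩
        rw [hd, AddSubgroup.mem_bot] at h1
        rw [h1, zero_add] at h0
        exact Prod.ext (Subtype.ext h1) (Subtype.ext h0)
      have hsurj : Function.Surjective f := fun x => by
        obtain ⟨a, ha, b, hb, rfl⟩ := AddSubgroup.mem_sup.1 (hs ▸ AddSubgroup.mem_top x)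
        exact ⟨(⟨a, ha⟩, ⟨b, hb⟩), rfl⟩
      let E : U × R ≃+ V := AddEquiv.ofBijective f ⟨hinj, hsurj⟩
      let P₁ : V →+ V := (U.subtype.comp (AddMonoidHom.fst U R)).comp E.symm.toAddMonoidHom
      let P₂ : V →+ V := (R.subtype.comp (AddMonoidHom.snd U R)).comp E.symm.toAddMonoidHom
      have hP : ∀ (a : U) (b : R), P₁ ((a : V) + b) = a ∧ P₂ ((a : V) + b) = b := fun a b => by
        have h1 : E.symm ((a : V) + b) = (a, b) := (AddEquiv.symm_apply_eq E).2 rfl
        exact ⟨show ((E.symm ((a : V) + b)).1 : V) = a by rw [h1],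
          show ((E.symm ((a : V) + b)).2 : V) = b by rw [h1]⟩
      have hR0 : R ≠ ⊥ := fun h => hU1 (by rwa [h, sup_bot_eq] at hs)
      have key := hol_le_family ih hsol hpA hf hV hcard (fun b : Bool => if b then U else R)
        (fun b => if b then P₁ else P₂)
        (fun b x => by
          cases b
          · exact (E.symm x).2.2
          · exact (E.symm x).1.2)
        (fun b x hx => by
          cases b
          · have h := (hP 0 ⟨x, hx⟩).2
            rwa [ZeroMemClass.coe_zero, zero_add] at h
          · have h := (hP ⟨x, hx⟩ 0).1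
            rwa [ZeroMemClass.coe_zero, add_zero] at h)
        (fun i j hij x hx => by
          cases i <;> cases j
          · exact absurd rfl hij
          · have h := (hP ⟨x, hx⟩ 0).2
            rwa [ZeroMemClass.coe_zero, add_zero] at h
          · have h := (hP 0 ⟨x, hx⟩).1
            rwa [ZeroMemClass.coe_zero, zero_add] at h
          · exact absurd rfl hij)
        (fun x => by
          rw [Fintype.sum_bool]
          obtain ⟨a, ha, b, hb, rfl⟩ := AddSubgroup.mem_sup.1 (hs ▸ AddSubgroup.mem_top x)
          show P₁ (a + b) + P₂ (a + b) = a + b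
          obtain ⟨e1, e2⟩ := hP ⟨a, ha⟩ ⟨b, hb⟩
          rw [e1, e2])
        (fun b => by
          cases b
          · exact hR
          · exact hU)
        (fun b => by
          cases b
          · exact hR0
          · exact hU0)
        (by simp)
      exact key.trans (Nat.mul_le_mul_right _ (Nat.pow_le_pow_right (by norm_num) (by simp; omega)))
    by_cases hfield : ∀ N : Subgroup A, N.Normal → (∀ x ∈ N, ∀ y ∈ N, Commute x y) →
        ∀ b ∈ imgRing V N, ∀ x : V, x ≠ 0 → b x = 0 → b = 0
    swap
    · push Not at hfield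
      obtain ⟨N, hN, hNc, b, hb, x, hx, hbx, hb0⟩ := hfield
      obtain ⟨W0, e, h0, h1, h2, hmv⟩ :=
        (Cfsg.Agent.Solv.OddPair.sys_or_field hirr hN hNc).resolve_right fun h => hb0 (h b hb x hx hbx)
      let s : Sys A V := ⟨W0, e, h0, h1, h2, hmv⟩
      haveI : Fintype (MulAction.orbit A s.W0) := Fintype.ofFinite _
      haveI : Nonempty (MulAction.orbit A s.W0) := ⟨⟨s.W0, MulAction.mem_orbit_self _⟩⟩
      let ρ := MulAction.toPermHom A (MulAction.orbit A s.W0)
      have hidx := index_ker_le_three_pow A (MulAction.orbit A s.W0) hsol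
      have ht2 : 2 ≤ Fintype.card (MulAction.orbit A s.W0) := by
        obtain ⟨a, ha⟩ := s.moves
        exact Fintype.one_lt_card_iff.2 ⟨⟨_, MulAction.mem_orbit _ a⟩, ⟨_, MulAction.mem_orbit_self _⟩,
          fun e => ha (congrArg Subtype.val e)⟩
      haveI := hsol
      have key := hol_le_family ih (A := ρ.ker)
        (Group.isSolvable_of_isSolvable_injective (Subgroup.subtype_injective ρ.ker))
        (fun h => hpA (h.trans ρ.ker.card_subgroup_dvd_card))
        (fun a h => Subtype.ext (hf a h)) hV hcard
        (fun W : MulAction.orbit A s.W0 => (W : AddSubgroup V)) (fun W => (s.e W : V →+ V))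
        (fun W x => e_mem hirr s W.2 x) (fun W x hx => s.one W W.2 x hx)
        (fun i j hij x hx => s.zero i i.2 j j.2 (fun e => hij (Subtype.ext e)) x hx)
        (fun x => e_sum hirr s x)
        (fun W a x hx => by
          have e : (a : A) • W = W := Equiv.Perm.congr_fun a.2 W
          exact (congrArg Subtype.val e) ▸ AddSubgroup.smul_mem_pointwise_smul x (a : A) _ hx)
        (fun W => by
          obtain ⟨a, ha⟩ := W.2
          intro h
          refine s.ne (AddSubgroup.eq_bot_of_card_le _ (le_of_eq ?_))
          rw [← card_smul a s.W0, show a • s.W0 = (⊥ : AddSubgroup V) from ha.trans h, AddSubgroup.card_bot])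
        ht2
      refine (hol_le_index ρ.ker).trans ((Nat.mul_le_mul hidx key).trans ?_)
      rw [← mul_assoc, ← pow_add, Nat.card_eq_fintype_card]
      refine Nat.mul_le_mul_right _ (Nat.pow_le_pow_right (by norm_num) ?_)
      have ht : Fintype.card (MulAction.orbit A s.W0) ≤ m := by
        have hc := card_eq_pow hirr s
        rw [hcard] at hc
        obtain ⟨i, -, hi⟩ := (Nat.dvd_prime_pow hp.out).1 (hcard ▸ AddSubgroup.card_addSubgroup_dvd_card s.W0)
        rw [hi, ← pow_mul, Nat.card_eq_fintype_card] at hc
        have h1 : 1 ≤ i := Nat.pos_of_ne_zero fun h => s.ne (AddSubgroup.eq_bot_of_card_le _ (by rw [hi, h]; rfl))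
        rw [Nat.pow_right_injective hp.out.two_le hc]
        exact Nat.le_mul_of_pos_left _ h1
      omega
    -- primitive
    obtain ⟨Z, hZn, K, _, _, _, ι, a, hZc, hmax, hι, hιsmul, hlin, hK, hidx, hnad⟩ :=
      exists_field hf hfield hcard
    haveI := hZn
    have hd0 : 0 < Module.finrank K V := Module.finrank_pos
    have ha : 0 < a := by
      have h1 : (Subgroup.centralizer (Z : Set A)).index ≠ 0 := Subgroup.index_ne_zero_of_finite
      omega
    obtain ⟨v0, hv0⟩ := exists_ne (0 : V)
    obtain ⟨C, hCdef⟩ : ∃ C, C = Subgroup.centralizer (Z : Set A) := ⟨_, rfl⟩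
    refine (hol_le_index C).trans ?_
    have haC : C.index ≤ 3 ^ (a - 1) := by
      refine le_trans (hCdef ▸ hidx) ?_
      have h1 : a - 1 < 3 ^ (a - 1) := Nat.lt_pow_self (by norm_num)
      omega
    have hfree : ∀ E : Subgroup A, E ≤ C → (∀ x ∈ E, ∀ y ∈ E, x * y * x⁻¹ * y⁻¹ ∈ Z) →
        Nat.card (ConjClasses (Hol E V)) ≤ Nat.card V := by
      intro E _ hEZ
      refine hol_le_card hV (fun h => hpA (h.trans E.card_subgroup_dvd_card))
        (fun x hx => Subtype.ext (hf x hx)) v0 fun x y hx hy => Subtype.ext ?_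
      obtain ⟨w, hw⟩ : ∃ w : Z, (w : A) = (x : A) * y * (x : A)⁻¹ * (y : A)⁻¹ :=
        ⟨⟨_, hEZ _ x.2 _ y.2⟩, rfl⟩
      have hx' : (x : A) • v0 = v0 := hx
      have hy' : (y : A) • v0 = v0 := hy
      have h1 : (w : A) • v0 = v0 := by
        rw [hw, mul_smul, mul_smul, mul_smul, inv_smul_eq_iff.2 hy'.symm, inv_smul_eq_iff.2 hx'.symm, hy', hx']
      rw [← hιsmul] at h1
      have h2 : (ι w - 1) • v0 = 0 := by rw [sub_smul, one_smul, h1, sub_self]
      have h3 : ι w = ι 1 := by
        rw [map_one]
        exact sub_eq_zero.1 ((smul_eq_zero.1 h2).resolve_right hv0)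
      have h4 : (x : A) * y * (x : A)⁻¹ * (y : A)⁻¹ = 1 := by rw [← hw, hι h3]; rfl
      rw [mul_inv_eq_one, mul_inv_eq_iff_eq_mul] at h4
      exact h4
    have hm : m = a * Module.finrank K V := hnad
    by_cases hCZ : C ≤ Z
    · have h1 := hfree C le_rfl fun x hx y hy =>
        Z.mul_mem (Z.mul_mem (Z.mul_mem (hCZ hx) (hCZ hy)) (Z.inv_mem (hCZ hx))) (Z.inv_mem (hCZ hy))
      refine (Nat.mul_le_mul haC h1).trans ?_
      rw [hcard]
      refine Nat.mul_le_mul_right _ (Nat.pow_le_pow_right (by norm_num) ?_)
      have := Nat.le_mul_of_pos_right a hd0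
      omega
    obtain ⟨E, hx, hEZ⟩ := exists_extra hsol hZc hmax ι hι (hCdef ▸ hCZ)
    haveI := hx.normal
    obtain ⟨s, hs, hs2, hsd, -⟩ := exists_layer_size ι hι hιsmul hlin hx hEZ
    obtain ⟨T, _, _, _, ⟨td⟩⟩ := exists_td hx hmax ι hι
    let f : C →* A ⧸ kerV A T := (QuotientGroup.mk' _).comp C.subtype
    have hker : f.ker = E.subgroupOf C := by
      ext c
      have h := SetLike.ext_iff.1 td.ker (c : A)
      rw [← hCdef, Subgroup.mem_inf] at h
      show QuotientGroup.mk' (kerV A T) (c : A) = 1 ↔ _
      rw [show (QuotientGroup.mk' (kerV A T) (c : A) = 1) ↔ (c : A) ∈ kerV A T from QuotientGroup.eq_one_iff _,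
        Subgroup.mem_subgroupOf]
      exact ⟨fun h' => h.1 ⟨h', c.2⟩, fun h' => (h.2 h').1⟩
    have hkC : Nat.card (ConjClasses (Hol C V)) ≤ Nat.card V * 3 ^ (s - 1) := by
      refine (hol_le_quot f).trans (Nat.mul_le_mul ?_ ?_)
      · have hE : ∀ x ∈ f.ker, (x : A) ∈ E := fun x hx => Subgroup.mem_subgroupOf.1 (hker ▸ hx)
        refine hol_le_card hV (fun h => hpA ((h.trans (Subgroup.card_subgroup_dvd_card f.ker)).trans
          C.card_subgroup_dvd_card)) (fun x hx => Subtype.ext (Subtype.ext (hf _ hx))) v0 ?_
        intro x y hx' hy'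
        refine Subtype.ext (Subtype.ext ?_)
        obtain ⟨w, hw⟩ : ∃ w : Z, (w : A) = ((x : C) : A) * ((y : C) : A) * ((x : C) : A)⁻¹ * ((y : C) : A)⁻¹ :=
          ⟨⟨_, hx.inZ _ (hE x x.2) _ (hE y y.2)⟩, rfl⟩
        have hx1 : ((x : C) : A) • v0 = v0 := hx'
        have hy1 : ((y : C) : A) • v0 = v0 := hy'
        have h1 : (w : A) • v0 = v0 := by
          rw [hw, mul_smul, mul_smul, mul_smul, inv_smul_eq_iff.2 hy1.symm, inv_smul_eq_iff.2 hx1.symm, hy1, hx1]
        rw [← hιsmul] at h1
        have h2 : (ι w - 1) • v0 = 0 := by rw [sub_smul, one_smul, h1, sub_self]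
        have h3 : ι w = ι 1 := by
          rw [map_one]
          exact sub_eq_zero.1 ((smul_eq_zero.1 h2).resolve_right hv0)
        have h4 : ((x : C) : A) * (y : C) * ((x : C) : A)⁻¹ * ((y : C) : A)⁻¹ = 1 := by rw [← hw, hι h3]; rfl
        rw [mul_inv_eq_one, mul_inv_eq_iff_eq_mul] at h4
        exact h4
      · letI := quotAct (A := A) (V := T)
        haveI := hsol
        exact layer_classes s (A ⧸ kerV A T) T
          (Group.isSolvable_of_surjective (f := QuotientGroup.mk' _) (QuotientGroup.mk'_surjective _))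
          (Cfsg.Agent.Solv.OddPair.cr_quot td.cr) (by rw [td.card, hs]) quot_faithful _
    refine (Nat.mul_le_mul haC hkC).trans ?_
    rw [← hcard, mul_comm (Nat.card V), ← mul_assoc, ← pow_add]
    refine Nat.mul_le_mul_right _ (Nat.pow_le_pow_right (by norm_num) ?_)
    have h1 := Nat.mul_le_mul_left a hsd
    have h2 : a + s ≤ a * s + 1 := by nlinarith
    omega

end main

end Cfsg.Agent.Solv.LayerCls
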