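import Cfsg.Agent.Lib.Solv.ClassFortyNine.Layer
import Cfsg.Agent.Lib.Solv.LayerClasses.Count

/-!
Orders of soluble completely reducible groups on small modules in characteristics two and three.
-/

set_option autoImplicit false
set_option linter.unusedSectionVars false
set_option linter.style.haveILetI false
set_option maxHeartbeats 800000
set_option synthInstance.maxSize 6000

namespace Cfsg.Agent.Solv.LayerCls

open scoped Pointwise
open Cfsg.Agent.Solv.OddPair (kerV mem_kerV subAct quotAct quot_faithful cr_sub cr_of_irred CR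
  imgRing Extra exists_extra)
open Cfsg.Agent.Solv.C49

universe u v

section general

variable {A : Type u} {V : Type v} [Group A] [Finite A] [AddCommGroup V] [Finite V]
  [DistribMulAction A V]

/-- Complementary subgroups multiply. -/
theorem card_of_compl {U W : AddSubgroup V} (hd : U ⊓ W = ⊥) (hs : U ⊔ W = ⊤) :
    Nat.card U * Nat.card W = Nat.card V := by
  rw [← Nat.card_prod]
  refine Nat.card_congr (Equiv.ofBijective (fun q : U × W => (q.1 : V) + q.2)
    ⟨fun q r e => ?_, fun x => ?_⟩)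
  · have e' : (q.1 : V) + q.2 = r.1 + r.2 := e
    have h1 : (q.1 : V) - r.1 ∈ U ⊓ W := AddSubgroup.mem_inf.2 ⟨sub_mem q.1.2 r.1.2, by
      rw [sub_eq_sub_iff_add_eq_add.2 (e'.trans (add_comm _ _) : (q.1 : V) + q.2 = (r.2 : V) + r.1)]
      exact sub_mem r.2.2 q.2.2⟩
    rw [hd, AddSubgroup.mem_bot, sub_eq_zero] at h1
    rw [h1] at e'
    exact Prod.ext (Subtype.ext h1) (Subtype.ext (add_left_cancel e'))
  · obtain ⟨a, ha, b, hb, rfl⟩ := AddSubgroup.mem_sup.1 (hs ▸ AddSubgroup.mem_top x)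
    exact ⟨(⟨a, ha⟩, ⟨b, hb⟩), rfl⟩

/-- Irreducible groups with blocks, against the group on one block. -/
theorem card_le_blocks_index (hf : ∀ a : A, (∀ x : V, a • x = x) → a = 1) (hirr : Irred A V)
    (s : Sys A V) :
    letI := subAct (A := MulAction.stabilizer A s.W0) s.W0 fun b _ hx => mem_stab_W0 s b.2 hx
    Nat.card A ≤ Nat.factorial (Nat.card (MulAction.orbit A s.W0)) *
      (kerV (MulAction.stabilizer A s.W0) s.W0).index ^ Nat.card (MulAction.orbit A s.W0) := by
  classical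
  letI := subAct (A := MulAction.stabilizer A s.W0) s.W0 fun b _ hx => mem_stab_W0 s b.2 hx
  haveI : Fintype (MulAction.orbit A s.W0) := Fintype.ofFinite _
  let ρ := MulAction.toPermHom A (MulAction.orbit A s.W0)
  have h1 : ρ.ker.index ≤ Nat.factorial (Nat.card (MulAction.orbit A s.W0)) := by
    rw [Subgroup.index_ker, ← Nat.card_perm]
    exact Subgroup.card_le_card_group _
  rw [← ρ.ker.card_mul_index, mul_comm]
  refine Nat.mul_le_mul h1 ?_
  have hrep : ∀ W : MulAction.orbit A s.W0, ∃ g : A, g • s.W0 = (W : AddSubgroup V) := fun W => W.2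
  choose g hg using hrep
  have hmem : ∀ (d : ρ.ker) (W : MulAction.orbit A s.W0),
      (g W)⁻¹ * (d : A) * g W ∈ MulAction.stabilizer A s.W0 := fun d W => by
    have e : (d : A) • (W : AddSubgroup V) = W :=
      congrArg Subtype.val (Equiv.Perm.congr_fun d.2 W)
    rw [MulAction.mem_stabilizer_iff, mul_smul, mul_smul, hg, e, ← hg, inv_smul_smul]
  let f : ρ.ker → MulAction.orbit A s.W0 →
      MulAction.stabilizer A s.W0 ⧸ kerV (MulAction.stabilizer A s.W0) s.W0 :=
    fun d W => ((⟨_, hmem d W⟩ : MulAction.stabilizer A s.W0) : _ ⧸ _)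
  have hinj : Function.Injective f := by
    intro d d' e
    refine Subtype.ext (inv_mul_eq_one.1 (hf ((d : A)⁻¹ * d') fun v => ?_))
    refine ext_blocks hirr s (DistribSMul.toAddMonoidHom V ((d : A)⁻¹ * d')) (AddMonoidHom.id V)
      (fun W hW x hx => ?_) v
    show ((d : A)⁻¹ * (d' : A)) • x = x
    obtain ⟨y, hy, rfl⟩ : ∃ y ∈ s.W0, g ⟨W, hW⟩ • y = x := by
      have h2 : x ∈ g ⟨W, hW⟩ • s.W0 := by rw [hg]; exact hx
      obtain ⟨y, hy, e'⟩ := h2
      exact ⟨y, hy, e'⟩
    have h3 := mem_kerV.1 (QuotientGroup.eq.1 (congrFun e ⟨W, hW⟩)) ⟨y, hy⟩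
    have h4 : (((g ⟨W, hW⟩)⁻¹ * (d : A) * g ⟨W, hW⟩)⁻¹ * ((g ⟨W, hW⟩)⁻¹ * (d' : A) * g ⟨W, hW⟩)) • y = y :=
      congrArg Subtype.val h3
    rw [show ((g ⟨W, hW⟩)⁻¹ * (d : A) * g ⟨W, hW⟩)⁻¹ * ((g ⟨W, hW⟩)⁻¹ * (d' : A) * g ⟨W, hW⟩) =
      (g ⟨W, hW⟩)⁻¹ * ((d : A)⁻¹ * d') * g ⟨W, hW⟩ by group, mul_smul, mul_smul, inv_smul_eq_iff] at h4
    exact h4
  refine (Nat.card_le_card_of_injective f hinj).trans (le_of_eq ?_)
  rw [Nat.card_pi, Finset.prod_const, Finset.card_univ, ← Nat.card_eq_fintype_card, Subgroup.index_eq_card]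

end general

/-- The largest soluble completely reducible groups in small dimension over two or three elements. -/
def bTab (l n : ℕ) : ℕ :=
  if l = 2 then [1, 1, 6, 21, 72, 155, 1296].getD n 0 else [1, 2, 48, 96, 4608].getD n 0

/-- The dimensions in the table. -/
def dTab (l : ℕ) : ℕ := if l = 2 then 6 else 4

/-- The bound of the group on the layer. -/
def rTab (s : ℕ) : ℕ := [0, 0, 6, 24, 72].getD s 0

theorem bTab_mul : ∀ l < 4, 2 ≤ l → ∀ i < 7, ∀ j < 7, i + j ≤ dTab l → 1 ≤ i → 1 ≤ j →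
    bTab l i * bTab l j ≤ bTab l (i + j) := by decide

theorem bTab_blocks : ∀ l < 4, 2 ≤ l → ∀ i < 7, ∀ m < 7, i * m ≤ dTab l → 1 ≤ i → 2 ≤ m →
    Nat.factorial m * bTab l i ^ m ≤ bTab l (i * m) := by decide

theorem bTab_semi : ∀ l < 4, 2 ≤ l → ∀ a < 7, ∀ d < 7, a * d ≤ dTab l → 1 ≤ a → 1 ≤ d →
    a * (l ^ a - 1) ≤ bTab l (a * d) := by decide

theorem bTab_layer : ∀ l < 4, 2 ≤ l → ∀ a < 7, ∀ d < 7, ∀ s < 7, (a * d ≤ dTab l ∧ 1 ≤ a ∧ 2 ≤ s ∧
    s ≤ d ∧ (l ^ a - 1) % s.minFac = 0) →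
      s ≤ 4 ∧ a * ((l ^ a - 1) * (s * s) * rTab s) ≤ bTab l (a * d) := by decide +kernel

section bound

variable {A V : Type v} [Group A] [Finite A] [AddCommGroup V] [Finite V] [DistribMulAction A V]

theorem small_prim [Nontrivial V] (hsol : Group.IsSolvable A)
    (hf : ∀ a : A, (∀ x : V, a • x = x) → a = 1)
    (hfield : ∀ N : Subgroup A, N.Normal → (∀ x ∈ N, ∀ y ∈ N, Commute x y) →
      ∀ b ∈ imgRing V N, ∀ x : V, x ≠ 0 → b x = 0 → b = 0)
    {l n : ℕ} [Fact l.Prime] (hl3 : l < 4) (hn : n ≤ dTab l) (hV : Nat.card V = l ^ n) :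
    Nat.card A ≤ bTab l n := by
  have hl2 := (Fact.out : l.Prime).two_le
  obtain ⟨Z, hZn, K, _, _, _, ι, a, hZc, hmax, hι, hιsmul, hlin, hK, hidx, hnad⟩ :=
    exists_field hf hfield hV
  haveI := hZn
  have hd0 : 0 < Module.finrank K V := Module.finrank_pos
  have ha : 0 < a := by
    have h1 : (Subgroup.centralizer (Z : Set A)).index ≠ 0 := Subgroup.index_ne_zero_of_finite
    omega
  have hz : Nat.card Z ≤ l ^ a - 1 := Nat.le_of_dvd (by
      have : l ≤ l ^ a := Nat.le_self_pow (by omega) l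
      omega) (hK ▸ card_dvd_units (V := V) ι hι hιsmul)
  have h7 : dTab l ≤ 6 := by unfold dTab; split_ifs <;> omega
  have ha7 : a ≤ n := hnad ▸ Nat.le_mul_of_pos_right a hd0
  have hd7 : Module.finrank K V ≤ n := hnad ▸ Nat.le_mul_of_pos_left _ ha
  rw [← (Subgroup.centralizer (Z : Set A)).card_mul_index, mul_comm, hnad]
  by_cases hCZ : Subgroup.centralizer (Z : Set A) ≤ Z
  · refine le_trans (Nat.mul_le_mul hidx ((Subgroup.card_le_of_le hCZ).trans hz))
      (bTab_semi l hl3 hl2 a (by omega) _ (by omega) (by omega) ha hd0)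
  · obtain ⟨E, hx, hEZ⟩ := exists_extra hsol hZc hmax ι hι hCZ
    haveI := hx.normal
    obtain ⟨s, hs, hs2, hsd, hdiv⟩ := exists_layer_size ι hι hιsmul hlin hx hEZ
    obtain ⟨T, _, _, _, ⟨td⟩⟩ := exists_td hx hmax ι hι
    have hmf : s.minFac ∣ l ^ a - 1 :=
      (hdiv _ (Nat.minFac_prime (by omega)) (Nat.minFac_dvd s)).trans
        (hK ▸ card_dvd_units (V := V) ι hι hιsmul)
    obtain ⟨hs4, hB⟩ := bTab_layer l hl3 hl2 a (by omega) _
      (show Module.finrank K V < 7 by omega) s (by omega) ⟨by omega, ha, hs2, hsd, Nat.mod_eq_zero_of_dvd hmf⟩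
    refine le_trans (Nat.mul_le_mul hidx ?_) hB
    have hR : E.relIndex (Subgroup.centralizer (Z : Set A)) ≤ rTab s := by
      interval_cases s
      · exact td.relIndex_prime hx Nat.prime_two hs
      · exact td.relIndex_prime hx Nat.prime_three hs
      · exact td.relIndex_four hsol hs
    have h1 : Nat.card (Subgroup.centralizer (Z : Set A)) =
        Nat.card Z * Z.relIndex E * E.relIndex (Subgroup.centralizer (Z : Set A)) := by
      rw [← Subgroup.relIndex_bot_left, ← Subgroup.relIndex_bot_left,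
        Subgroup.relIndex_mul_relIndex _ _ _ bot_le hx.le,
        Subgroup.relIndex_mul_relIndex _ _ _ bot_le hx.le_centralizer]
    rw [h1, hs]
    exact Nat.mul_le_mul (Nat.mul_le_mul_right _ hz) hR

/-- Soluble completely reducible groups in small dimension over two or three elements. -/
theorem small_bound (l : ℕ) [Fact l.Prime] (hl3 : l < 4) (n : ℕ) :
    ∀ (A V : Type v) [Group A] [Finite A] [AddCommGroup V] [Finite V] [DistribMulAction A V],
      Group.IsSolvable A → CR A V → n ≤ dTab l → Nat.card V = l ^ n →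
        (kerV A V).index ≤ bTab l n := by
  have hlp := (Fact.out : l.Prime)
  have hl2 := hlp.two_le
  have h7 : dTab l ≤ 6 := by unfold dTab; split_ifs <;> omega
  induction n using Nat.strong_induction_on with
  | _ n ih =>
    intro A V _ _ _ _ _ hsol hcr hn hV
    rcases Nat.eq_zero_or_pos n with rfl | hn0
    · haveI : Subsingleton V := (Nat.card_eq_one_iff_unique.1 (by simpa using hV)).1
      rw [Subgroup.index_eq_one.2 ((Subgroup.eq_top_iff' _).2 fun a => mem_kerV.2 fun x =>
        Subsingleton.elim _ _)]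
      unfold bTab
      split_ifs <;> exact le_of_eq rfl
    haveI : Nontrivial V := Finite.one_lt_card_iff_nontrivial.1 (hV ▸ Nat.one_lt_pow (by omega) hl2)
    by_cases hirr : Irred A V
    · letI := quotAct (A := A) (V := V)
      haveI := hsol
      have hQ : Group.IsSolvable (A ⧸ kerV A V) :=
        Group.isSolvable_of_surjective (f := QuotientGroup.mk' (kerV A V)) (QuotientGroup.mk'_surjective _)
      have hirr' : Irred (A ⧸ kerV A V) V := fun U hU => hirr U fun a x hx => hU (a : A ⧸ kerV A V) x hx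
      rw [Subgroup.index_eq_card]
      by_cases hfield : ∀ N : Subgroup (A ⧸ kerV A V), N.Normal → (∀ x ∈ N, ∀ y ∈ N, Commute x y) →
          ∀ b ∈ imgRing V N, ∀ x : V, x ≠ 0 → b x = 0 → b = 0
      · exact small_prim hQ quot_faithful hfield hl3 hn hV
      · push Not at hfield
        obtain ⟨N, hN, hNc, b, hb, x, hx, hbx, hb0⟩ := hfield
        obtain ⟨W0, e, h0, h1, h2, hm⟩ :=
          (Cfsg.Agent.Solv.OddPair.sys_or_field hirr' hN hNc).resolve_right fun h => hb0 (h b hb x hx hbx)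
        let s : Sys (A ⧸ kerV A V) V := ⟨W0, e, h0, h1, h2, hm⟩
        refine (card_le_blocks_index quot_faithful hirr' s).trans ?_
        have hc := card_eq_pow hirr' s
        obtain ⟨i, -, hi⟩ := (Nat.dvd_prime_pow hlp).1 (hV ▸ AddSubgroup.card_addSubgroup_dvd_card s.W0)
        obtain ⟨m, hm'⟩ : ∃ m, m = Nat.card (MulAction.orbit (A ⧸ kerV A V) s.W0) := ⟨_, rfl⟩
        rw [← hm', hi, hV, ← pow_mul] at hc
        have hnim : n = i * m := Nat.pow_right_injective hl2 hc
        haveI : Nontrivial (MulAction.orbit (A ⧸ kerV A V) s.W0) := by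
          obtain ⟨a, ha⟩ := s.moves
          exact ⟨⟨⟨_, MulAction.mem_orbit _ a⟩, ⟨_, MulAction.mem_orbit_self _⟩,
            fun e => ha (congrArg Subtype.val e)⟩⟩
        have hm2 : 2 ≤ m := hm' ▸ (Finite.one_lt_card : 1 < Nat.card (MulAction.orbit (A ⧸ kerV A V) s.W0))
        have hi1 : 1 ≤ i := Nat.pos_of_ne_zero fun h => s.ne (AddSubgroup.eq_bot_of_card_le _ (by rw [hi, h]; rfl))
        have h3 : i < n := by
          rw [hnim]
          exact lt_mul_of_one_lt_right hi1 hm2
        have h4 : m ≤ n := hnim ▸ Nat.le_mul_of_pos_left m (by omega)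
        rw [← hm', hnim]
        letI := subAct (A := MulAction.stabilizer (A ⧸ kerV A V) s.W0) s.W0 fun b _ hx => mem_stab_W0 s b.2 hx
        have hs0 : Group.IsSolvable (MulAction.stabilizer (A ⧸ kerV A V) s.W0) :=
          Group.isSolvable_of_isSolvable_injective (Subgroup.subtype_injective _)
        have hb := ih i h3 (MulAction.stabilizer (A ⧸ kerV A V) s.W0) s.W0 hs0
          (cr_of_irred (irred_block hirr' s)) (by omega) hi
        exact (Nat.mul_le_mul_left _ (Nat.pow_le_pow_left hb m)).trans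
          (bTab_blocks l hl3 hl2 i (by omega) m (by omega) (by omega) hi1 hm2)
    · simp only [Irred] at hirr
      push Not at hirr
      obtain ⟨U, hU, hU0, hU1⟩ := hirr
      obtain ⟨W, hW, hd, hs⟩ := hcr U hU
      obtain ⟨i, -, hi⟩ := (Nat.dvd_prime_pow hlp).1 (hV ▸ AddSubgroup.card_addSubgroup_dvd_card U)
      obtain ⟨j, -, hj⟩ := (Nat.dvd_prime_pow hlp).1 (hV ▸ AddSubgroup.card_addSubgroup_dvd_card W)
      have hprod := card_of_compl hd hs
      rw [hi, hj, hV, ← pow_add] at hprod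
      have hn' : i + j = n := Nat.pow_right_injective hl2 hprod
      have hi1 : 1 ≤ i := Nat.pos_of_ne_zero fun h => hU0 (AddSubgroup.eq_bot_of_card_le _ (by rw [hi, h]; rfl))
      have hj1 : 1 ≤ j := Nat.pos_of_ne_zero fun h => hU1 (by
        have h1 : W = ⊥ := AddSubgroup.eq_bot_of_card_le _ (by rw [hj, h]; rfl)
        rwa [h1, sup_bot_eq] at hs)
      letI aU : DistribMulAction A U := subAct U hU
      letI aW : DistribMulAction A W := subAct W hW
      have b1 := ih i (by omega) A U hsol (cr_sub hcr U hU) (by omega) hi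
      have b2 := ih j (by omega) A W hsol (cr_sub hcr W hW) (by omega) hj
      have hle : kerV A U ⊓ kerV A W ≤ kerV A V := by
        intro a ha
        refine mem_kerV.2 fun x => ?_
        obtain ⟨u, hu, w, hw, rfl⟩ := AddSubgroup.mem_sup.1 (hs ▸ AddSubgroup.mem_top x)
        rw [smul_add, show a • u = u from congrArg Subtype.val (mem_kerV.1 ha.1 ⟨u, hu⟩),
          show a • w = w from congrArg Subtype.val (mem_kerV.1 ha.2 ⟨w, hw⟩)]
      refine ((Nat.le_of_dvd (Nat.pos_of_ne_zero Subgroup.index_ne_zero_of_finite)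
        (Subgroup.index_dvd_of_le hle)).trans (Subgroup.index_inf_le)).trans ?_
      refine (Nat.mul_le_mul b1 b2).trans ?_
      rw [← hn']
      exact bTab_mul l hl3 hl2 i (by omega) j (by omega) (by omega) hi1 hj1

end bound

end Cfsg.Agent.Solv.LayerCls
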